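import Mathlib

/-!
# A small kernel of a homomorphism and a commutator in it
-/

set_option autoImplicit false

namespace H9.HN

variable {P Q : Type} [Group P] [Group Q]

theorem small_four {K : Subgroup P} [Finite K] (hK : Nat.card K ≤ 3) {a b c d : P} (ha : a ∈ K) (hb : b ∈ K)
    (hc : c ∈ K) (hd : d ∈ K) : a = b ∨ a = c ∨ a = d ∨ b = c ∨ b = d ∨ c = d := by
  classical
  by_contra hcon
  push Not at hcon
  obtain ⟨h1, h2, h3, h4, h5, h6⟩ := hcon
  have : Fintype K := Fintype.ofFinite K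
  have hs : ({⟨a, ha⟩, ⟨b, hb⟩, ⟨c, hc⟩, ⟨d, hd⟩} : Finset K).card = 4 := by
    rw [Finset.card_insert_of_notMem, Finset.card_insert_of_notMem, Finset.card_insert_of_notMem, Finset.card_singleton]
    · simpa using h6
    · simp [h4, h5]
    · simp [h1, h2, h3]
  have hle := Finset.card_le_univ ({⟨a, ha⟩, ⟨b, hb⟩, ⟨c, hc⟩, ⟨d, hd⟩} : Finset K)
  rw [hs, ← Nat.card_eq_fintype_card] at hle
  omega

theorem small_comm {K : Subgroup P} [Finite K] (hK : Nat.card K ≤ 3) {k l : P} (hk : k ∈ K) (hl : l ∈ K) :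
    k * l = l * k := by
  rcases small_four hK K.one_mem hk hl (K.mul_mem hk hl) with h | h | h | h | h | h
  · rw [← h]; simp
  · rw [← h]; simp
  · have : l = k⁻¹ := by rw [eq_comm, inv_eq_iff_mul_eq_one]; exact h.symm
    rw [this]; simp
  · rw [h]
  · have : l = 1 := by simpa using h.symm
    rw [this]; simp
  · have : k = 1 := by simpa using h.symm
    rw [this]; simp

theorem small_sq {K : Subgroup P} [K.Normal] [Finite K] (hK : Nat.card K ≤ 3) {k : P} (hk : k ∈ K) (u : P) :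
    (u * u) * k = k * (u * u) := by
  have h1 : u * k * u⁻¹ ∈ K := ‹K.Normal›.conj_mem k hk u
  have h2 : u * (u * k * u⁻¹) * u⁻¹ ∈ K := ‹K.Normal›.conj_mem _ h1 u
  have key : u * (u * k * u⁻¹) * u⁻¹ = k := by
    rcases small_four hK K.one_mem hk h1 h2 with h | h | h | h | h | h
    · rw [← h]; group
    · have : k = 1 := by
        have h' := h.symm
        rw [mul_inv_eq_one] at h'
        simpa using h'
      rw [this]; group
    · have h' := h.symm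
      rw [mul_inv_eq_one] at h'
      have h3 : u * k * u⁻¹ = 1 := by simpa using h'
      rw [mul_inv_eq_one] at h3
      have : k = 1 := by simpa using h3
      rw [this]; group
    · rw [← h, ← h]
    · exact h.symm
    · have h3 : k = u * k * u⁻¹ := by
        have h4 := congrArg (fun t => u⁻¹ * t * u) h
        simpa [mul_assoc] using h4
      rw [← h3, ← h3]
  calc (u * u) * k = (u * (u * k * u⁻¹) * u⁻¹) * (u * u) := by group
    _ = k * (u * u) := by rw [key]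

/-- the commutator of two elements of order three modulo a kernel of order at most three vanishes when it is
inverted by a square -/
theorem ker_arg (φ : P →* Q) [Finite φ.ker] (hK : Nat.card φ.ker ≤ 3) (a b g0 : P)
    (h1 : φ (a ^ 3) = 1) (h2 : φ ((g0 * g0)⁻¹ * a * (g0 * g0) * a) = 1)
    (h3 : φ ((g0 * g0)⁻¹ * b * (g0 * g0) * b⁻¹) = 1) (h4 : φ (a⁻¹ * b⁻¹ * a * b) = 1) (h5 : φ (b ^ 3) = 1) :
    a⁻¹ * b⁻¹ * a * b = 1 := by
  have cen : ∀ w : P, φ (w ^ 3) = 1 → ∀ k ∈ φ.ker, k * w = w * k := by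
    intro w hw k hk
    have e : w = w⁻¹ * w⁻¹ * w ^ 3 := by group
    have e1 : (w⁻¹ * w⁻¹) * k = k * (w⁻¹ * w⁻¹) := small_sq hK hk w⁻¹
    have e2 : w ^ 3 * k = k * w ^ 3 := small_comm hK (MonoidHom.mem_ker.2 hw) hk
    calc k * w = k * (w⁻¹ * w⁻¹ * w ^ 3) := by rw [← e]
      _ = (k * (w⁻¹ * w⁻¹)) * w ^ 3 := by group
      _ = (w⁻¹ * w⁻¹) * (k * w ^ 3) := by rw [← e1]; group
      _ = (w⁻¹ * w⁻¹ * w ^ 3) * k := by rw [← e2]; group
      _ = w * k := by rw [← e]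
  have ca := cen a h1
  have cb := cen b h5
  set g := g0 * g0 with hg
  set c := a⁻¹ * b⁻¹ * a * b with hc
  have hcK : c ∈ φ.ker := MonoidHom.mem_ker.2 h4
  have hk1 : g⁻¹ * a * g * a ∈ φ.ker := MonoidHom.mem_ker.2 h2
  have hk2 : g⁻¹ * b * g * b⁻¹ ∈ φ.ker := MonoidHom.mem_ker.2 h3
  obtain ⟨k1, ek1⟩ : ∃ k1, k1 = g⁻¹ * a * g * a := ⟨_, rfl⟩
  obtain ⟨k2, ek2⟩ : ∃ k2, k2 = g⁻¹ * b * g * b⁻¹ := ⟨_, rfl⟩
  rw [← ek1] at hk1
  rw [← ek2] at hk2
  have ea : g⁻¹ * a * g = k1 * a⁻¹ := by rw [ek1]; group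
  have eb : g⁻¹ * b * g = k2 * b := by rw [ek2]; group
  have egc : g⁻¹ * c * g = c := by
    have := small_sq hK hcK g0
    rw [← hg] at this
    calc g⁻¹ * c * g = g⁻¹ * (c * g) := by group
      _ = g⁻¹ * (g * c) := by rw [← this]
      _ = c := by group
  have egc2 : g⁻¹ * c * g = (g⁻¹ * a * g)⁻¹ * (g⁻¹ * b * g)⁻¹ * (g⁻¹ * a * g) * (g⁻¹ * b * g) := by
    rw [hc]; group
  rw [egc, ea, eb] at egc2
  -- commutations
  have c1 : k1 * k2 = k2 * k1 := small_comm hK hk1 hk2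
  have a1 := ca k1 hk1
  have a2 := ca k2 hk2
  have b1 := cb k1 hk1
  have b2 := cb k2 hk2
  have A1 : Commute k1 a := a1
  have A2 : Commute k2 a := a2
  have B1 : Commute k1 b := b1
  have B2 : Commute k2 b := b2
  have C1 : Commute k1 k2 := c1
  have e3 : (k1 * a⁻¹)⁻¹ * (k2 * b)⁻¹ * (k1 * a⁻¹) * (k2 * b) = a * b⁻¹ * a⁻¹ * b := by
    have s1 : (k2 * b)⁻¹ * (k1 * a⁻¹) = k1 * (k2 * b)⁻¹ * a⁻¹ := by
      have : Commute k1 (k2 * b)⁻¹ := (C1.mul_right B1).inv_right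
      calc (k2 * b)⁻¹ * (k1 * a⁻¹) = ((k2 * b)⁻¹ * k1) * a⁻¹ := by group
        _ = (k1 * (k2 * b)⁻¹) * a⁻¹ := by rw [this.eq]
    have s2 : a⁻¹ * (k2 * b) = k2 * a⁻¹ * b := by
      have : Commute k2 a⁻¹ := A2.inv_right
      calc a⁻¹ * (k2 * b) = (a⁻¹ * k2) * b := by group
        _ = (k2 * a⁻¹) * b := by rw [this.eq]
    calc (k1 * a⁻¹)⁻¹ * (k2 * b)⁻¹ * (k1 * a⁻¹) * (k2 * b)
        = a * k1⁻¹ * ((k2 * b)⁻¹ * (k1 * a⁻¹)) * (k2 * b) := by group
      _ = a * k1⁻¹ * (k1 * (k2 * b)⁻¹ * a⁻¹) * (k2 * b) := by rw [s1]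
      _ = a * b⁻¹ * k2⁻¹ * (a⁻¹ * (k2 * b)) := by group
      _ = a * b⁻¹ * k2⁻¹ * (k2 * a⁻¹ * b) := by rw [s2]
      _ = a * b⁻¹ * a⁻¹ * b := by group
  rw [e3] at egc2
  have hcc : c * a = a * c := ca c hcK
  have hinv : c = c⁻¹ := by
    have e4 : a * b⁻¹ * a⁻¹ * b = a * c⁻¹ * a⁻¹ := by rw [hc]; group
    rw [e4] at egc2
    have : a * c⁻¹ * a⁻¹ = c⁻¹ := by
      have h : Commute c a := hcc
      have h' := h.inv_left.eq
      rw [← h']; group
    rw [this] at egc2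
    exact egc2
  have hsq : c * c = 1 := by
    nth_rewrite 1 [hinv]
    exact inv_mul_cancel c
  have hcube : c ^ 3 = 1 := by
    have e5 : b⁻¹ * a * b = a * c := by rw [hc]; group
    have e6 : b⁻¹ * a ^ 3 * b = (a * c) ^ 3 := by
      have e9 : (b⁻¹ * a * b) ^ 3 = b⁻¹ * a ^ 3 * b := by simp [pow_succ, mul_assoc]
      rw [← e5, e9]
    have e7 : (a * c) ^ 3 = a ^ 3 * c ^ 3 := (show Commute a c from hcc.symm).mul_pow 3
    have e8 : b⁻¹ * a ^ 3 * b = a ^ 3 := by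
      have := cb (a ^ 3) (MonoidHom.mem_ker.2 h1)
      calc b⁻¹ * a ^ 3 * b = b⁻¹ * (a ^ 3 * b) := by group
        _ = b⁻¹ * (b * a ^ 3) := by rw [this]
        _ = a ^ 3 := by group
    rw [e8, e7] at e6
    simpa using e6.symm
  calc c = c ^ 3 * (c * c)⁻¹ := by group
    _ = 1 := by rw [hcube, hsq]; simp

end H9.HN
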