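import Cfsg.Agent.Lib.H9.HN.TCPA.Snd
import Cfsg.Agent.Lib.H9.HN.TCPA.R0
import Cfsg.Agent.Lib.H9.HN.TCPA.R1
import Cfsg.Agent.Lib.H9.HN.TCPA.R2

/-!  -/

set_option autoImplicit false
set_option maxRecDepth 100000
set_option linter.all false
namespace H9.HN.TCPA
open H35.TC
theorem cnt_zero (k lo : ℕ) (h : M ≤ lo) : cntB liveP k lo = 0 := by
  rw [← cntB_spec, Finset.card_eq_zero, Finset.filter_eq_empty_iff]
  intro u hu
  have h2 := (Finset.mem_Ico.1 hu).1
  have h3 : Nat.ble M u = true := Nat.ble_eq_true_of_le (le_trans h h2)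
  unfold liveP
  rw [h3]
  simp
theorem cnt_step (k lo a b : ℕ) (h1 : cntB liveP k lo = a) (h2 : cntB liveP k (lo + 2 ^ k) = b) : cntB liveP (k + 1) lo = a + b := by
  have e : cntB liveP (k + 1) lo = cntB liveP k lo + cntB liveP k (lo + 2 ^ k) := rfl
  rw [e, h1, h2]
theorem cnt_live : cntB liveP 15 0 = 352 := by
  have h : Nat.beq (cntB liveP 15 0) 352 = true := by decide +kernel
  exact eqOfBeq h
theorem all_nodes : ∀ u, u < M → chkP u = true := by
  intro u hu
  have hu' : u < 18053 := hu
  have h0 : 0 ≤ u := Nat.zero_le u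
  rcases Nat.lt_or_ge u 8192 with h | h
  · exact blk_0 u (by omega) h
  clear h0
  rename' h => h0
  rcases Nat.lt_or_ge u 16384 with h | h
  · exact blk_1 u (by omega) h
  clear h0
  rename' h => h0
  rcases Nat.lt_or_ge u 18432 with h | h
  · exact blk_2 u (by omega) h
  clear h0
  rename' h => h0
  omega
/-- **certificate**: in any group `G` with elements `g` satisfying the relators `rels`, a subgroup `H` containing
the words `subs` has relative index at most 352 in the subgroup generated by `g`. -/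
theorem main {G : Type} [Group G] {g : Lt → G} {H : Subgroup G} (hinv : ∀ x, g (inv x) = (g x)⁻¹)
    (hp : ∀ x y, (g x * g y) ^ mm x y = 1) (he : ∀ p ∈ extra, ((p.1.map g).prod) ^ p.2 = 1)
    (hH : ∀ r ∈ subs, (r.map g).prod ∈ H) :
    H.relIndex (Subgroup.closure (Set.range g)) ≤ 352 ∧ H.relIndex (Subgroup.closure (Set.range g)) ≠ 0 :=
  final hinv (mkRels_ok hp he) hH all_nodes cnt_live
end H9.HN.TCPA
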