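import Cfsg.Agent.Lib.H9.HN.TCPC.Snd
import Cfsg.Agent.Lib.H9.HN.TCPC.R0
import Cfsg.Agent.Lib.H9.HN.TCPC.R1
import Cfsg.Agent.Lib.H9.HN.TCPC.R2
import Cfsg.Agent.Lib.H9.HN.TCPC.L0
import Cfsg.Agent.Lib.H9.HN.TCPC.L1

/-!  -/

set_option autoImplicit false
set_option maxRecDepth 100000
set_option linter.all false
namespace H9.HN.TCPC
open H35.TC
theorem cnt_zero (k lo : ℕ) (h : M ≤ lo) : cntB liveP k lo = 0 := by
  rw [← cntB_spec, Finset.card_eq_zero, Finset.filter_eq_empty_iff]
  intro u hu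
  have h2 := (Finset.mem_Ico.1 hu).1
  have h3 : Nat.ble M u = true := Nat.ble_eq_true_of_le (le_trans h h2)
  unfold liveP
  rw [h3]
  simp
theorem cnt_step (k lo a b : ℕ) (h1 : cntB liveP k lo = a) (h2 : cntB liveP k (lo + 2 ^ k) = b) : cntB liveP (k + 1) lo = a + b := by
  have e : cntB liveP (k + 1) lo = cntB liveP k lo + cntB liveP k (lo + 2 ^ k) := rfl
  rw [e, h1, h2]
theorem c_13_0 : cntB liveP 13 0 = 7916 := cnt_step 12 0 3992 3924 l_0 l_1
theorem c_13_8192 : cntB liveP 13 8192 = 7944 := cnt_step 12 8192 3957 3987 l_2 l_3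
theorem c_14_0 : cntB liveP 14 0 = 15860 := cnt_step 13 0 7916 7944 c_13_0 c_13_8192
theorem c_13_16384 : cntB liveP 13 16384 = 7978 := cnt_step 12 16384 3978 4000 l_4 l_5
theorem c_13_24576 : cntB liveP 13 24576 = 8058 := cnt_step 12 24576 4009 4049 l_6 l_7
theorem c_14_16384 : cntB liveP 14 16384 = 16036 := cnt_step 13 16384 7978 8058 c_13_16384 c_13_24576
theorem c_15_0 : cntB liveP 15 0 = 31896 := cnt_step 14 0 15860 16036 c_14_0 c_14_16384
theorem c_13_32768 : cntB liveP 13 32768 = 8178 := cnt_step 12 32768 4084 4094 l_8 l_9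
theorem c_13_40960 : cntB liveP 13 40960 = 1926 := cnt_step 12 40960 1926 0 l_10 (cnt_zero 12 45056 (by decide))
theorem c_14_32768 : cntB liveP 14 32768 = 10104 := cnt_step 13 32768 8178 1926 c_13_32768 c_13_40960
theorem c_15_32768 : cntB liveP 15 32768 = 10104 := cnt_step 14 32768 10104 0 c_14_32768 (cnt_zero 14 49152 (by decide))
theorem c_16_0 : cntB liveP 16 0 = 42000 := cnt_step 15 0 31896 10104 c_15_0 c_15_32768
theorem cnt_live : cntB liveP 16 0 = 42000 := c_16_0
theorem all_nodes : ∀ u, u < M → chkP u = true := by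
  intro u hu
  have hu' : u < 42886 := hu
  have h0 : 0 ≤ u := Nat.zero_le u
  rcases Nat.lt_or_ge u 16384 with h | h
  · exact blk_0 u (by omega) h
  clear h0
  rename' h => h0
  rcases Nat.lt_or_ge u 32768 with h | h
  · exact blk_1 u (by omega) h
  clear h0
  rename' h => h0
  rcases Nat.lt_or_ge u 43008 with h | h
  · exact blk_2 u (by omega) h
  clear h0
  rename' h => h0
  omega
/-- **certificate**: in any group `G` with elements `g` satisfying the relators `rels`, a subgroup `H` containing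
the words `subs` has relative index at most 42000 in the subgroup generated by `g`. -/
theorem main {G : Type} [Group G] {g : Lt → G} {H : Subgroup G} (hinv : ∀ x, g (inv x) = (g x)⁻¹)
    (hp : ∀ x y, (g x * g y) ^ mm x y = 1) (he : ∀ p ∈ extra, ((p.1.map g).prod) ^ p.2 = 1)
    (hH : ∀ r ∈ subs, (r.map g).prod ∈ H) :
    H.relIndex (Subgroup.closure (Set.range g)) ≤ 42000 ∧ H.relIndex (Subgroup.closure (Set.range g)) ≠ 0 :=
  final hinv (mkRels_ok hp he) hH all_nodes cnt_live
end H9.HN.TCPC
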