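import Mathlib
import Cfsg.Agent.Lib.H35.SubHom
import Cfsg.Agent.Lib.H9.HN.KerArg
import Cfsg.Agent.Lib.H9.HN.TCPA
import Cfsg.Agent.Lib.H9.HN.TCPB
import Cfsg.Agent.Lib.H9.HN.TCPC
import Cfsg.Agent.Lib.H9.HN.TCA4
import Cfsg.Agent.Lib.H9.HN.NP.Rel
import Cfsg.Agent.Lib.H9.HN.NP.Orb
import Cfsg.Agent.Lib.H9.HN.NP.Sim

/-!
# The presentation on `x, y, z` inside the presentation of the Harada-Norton group defines a group of order 177408000
-/

set_option autoImplicit false
set_option linter.all false
set_option maxRecDepth 10000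

namespace H9.HN.PMain

open H35.TC H35.Net

/-- letters -/
abbrev LP := H9.HN.TCPA.Lt

/-- the presented group on x, y, z -/
abbrev P := PresentedGroup (relSet TCPA.mm TCPA.extra)

/-- generators -/
def p : LP → P := fun x => PresentedGroup.of x

theorem okP : RelOK TCPA.mm TCPA.extra p := relOK_of _ _

theorem hinv_of {G : Type} [Group G] {g : LP → G} (h : RelOK TCPA.mm TCPA.extra g) :
    ∀ x, g (TCPA.inv x) = (g x)⁻¹ := by
  obtain ⟨hp, he⟩ := h
  intro x
  cases x
  · have h1 := he ([.x, .xi], 1) (by simp [TCPA.extra])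
    have h2 : g .x * g .xi = 1 := by simpa using h1
    exact (inv_eq_of_mul_eq_one_right h2).symm
  · have h1 := he ([.x, .xi], 1) (by simp [TCPA.extra])
    have h2 : g .x * g .xi = 1 := by simpa using h1
    exact (inv_eq_of_mul_eq_one_left h2).symm
  · have h1 := he ([.y, .yi], 1) (by simp [TCPA.extra])
    have h2 : g .y * g .yi = 1 := by simpa using h1
    exact (inv_eq_of_mul_eq_one_right h2).symm
  · have h1 := he ([.y, .yi], 1) (by simp [TCPA.extra])
    have h2 : g .y * g .yi = 1 := by simpa using h1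
    exact (inv_eq_of_mul_eq_one_left h2).symm
  · have h1 := hp .z .z
    have h2 : g .z * g .z = 1 := by simpa [TCPA.mm] using h1
    exact (inv_eq_of_mul_eq_one_left h2).symm

theorem okπ : RelOK TCPA.mm TCPA.extra NP.π := ⟨NP.hp, NP.he⟩

/-- the action on 1408 points -/
noncomputable def φ : P →* Equiv.Perm ℕ := (exists_lift okπ).choose

theorem hφ : ∀ x, φ (p x) = NP.π x := (exists_lift okπ).choose_spec

theorem mem_range (x : LP) : NP.π x ∈ φ.range := ⟨p x, hφ x⟩

/-- letters of D -/
def jD : TCPB.Lt → LP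
  | .x => .x
  | .xi => .xi
  | .y => .y
  | .yi => .yi

/-- letters of D -/
def jD' : TCPC.Lt → LP
  | .x => .x
  | .xi => .xi
  | .y => .y
  | .yi => .yi

/-- generators of the subgroup of order 12 -/
def gA : TCA4.Lt → P
  | .u => p .xi * p .y * p .y * p .x
  | .ui => (p .xi * p .y * p .y * p .x)⁻¹
  | .s => p .y * p .y * p .y

/-- D -/
def D : Subgroup P := Subgroup.closure (Set.range fun x => p (jD x))

/-- subgroup of order 12 -/
def A4 : Subgroup P := Subgroup.closure (Set.range gA)

theorem genP : Subgroup.closure (Set.range p) = ⊤ := PresentedGroup.closure_range_of _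

theorem y6 : p .y ^ 6 = 1 := by
  have h := okP.2 ([.y], 6) (by simp [TCPA.extra])
  simpa using h

theorem xix : p .xi * p .x = 1 := by
  have h := okP.2 ([.xi, .x], 1) (by simp [TCPA.extra])
  simpa using h

theorem xxi : p .x * p .xi = 1 := by
  have h := okP.2 ([.x, .xi], 1) (by simp [TCPA.extra])
  simpa using h

theorem exi : p .xi = (p .x)⁻¹ := hinv_of okP .x
theorem eyi : p .yi = (p .y)⁻¹ := hinv_of okP .y

theorem idxA : D.relIndex (Subgroup.closure (Set.range p)) ≤ 352 ∧ D.relIndex (Subgroup.closure (Set.range p)) ≠ 0 := by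
  refine TCPA.main (g := p) (H := D) (hinv_of okP) okP.1 okP.2 ?_
  intro r hr
  simp only [TCPA.subs, List.mem_cons, List.mem_nil_iff, or_false] at hr
  rcases hr with rfl | rfl
  · simp only [List.map_cons, List.map_nil, List.prod_cons, List.prod_nil, mul_one]
    exact Subgroup.subset_closure ⟨.x, rfl⟩
  · simp only [List.map_cons, List.map_nil, List.prod_cons, List.prod_nil, mul_one]
    exact Subgroup.subset_closure ⟨.y, rfl⟩

theorem A4_subs : ∀ r ∈ TCPB.subs, (r.map fun x => p (jD x)).prod ∈ A4 := by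
  intro r hr
  simp only [TCPB.subs, List.mem_cons, List.mem_nil_iff, or_false] at hr
  rcases hr with rfl | rfl
  · have : (List.map (fun x => p (jD x)) [TCPB.Lt.xi, .y, .y, .x]).prod = gA .u := by
      simp [jD, gA, mul_assoc]
    rw [this]
    exact Subgroup.subset_closure ⟨.u, rfl⟩
  · have : (List.map (fun x => p (jD x)) [TCPB.Lt.y, .y, .y]).prod = gA .s := by
      simp [jD, gA, mul_assoc]
    rw [this]
    exact Subgroup.subset_closure ⟨.s, rfl⟩

theorem idxB : A4.relIndex D ≤ 126000 ∧ A4.relIndex D ≠ 0 := by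
  refine TCPB.main (g := fun x => p (jD x)) (H := A4) (by intro x; have h := hinv_of okP (jD x); cases x <;> exact h)
    (transfer_hp okP.1 jD (by intro x y; cases x <;> cases y <;> decide))
    (transfer_he okP.2 jD (by decide)) A4_subs

theorem A4_card : Nat.card A4 ≤ 12 ∧ Nat.card A4 ≠ 0 := by
  have hs : gA .s * gA .s = 1 := by
    have := y6
    change (p .y * p .y * p .y) * (p .y * p .y * p .y) = 1
    simpa [pow_succ, mul_assoc] using this
  have hu : gA .u ^ 3 = 1 := by
    change (p .xi * p .y * p .y * p .x) ^ 3 = 1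
    rw [exi]
    have e : ((p .x)⁻¹ * p .y * p .y * p .x) ^ 3 = (p .x)⁻¹ * p .y ^ 6 * p .x := by
      simp [pow_succ, mul_assoc]
    rw [e, y6]
    simp
  have hus : (gA .u * gA .s) ^ 3 = 1 := by
    have h := okP.2 ([.xi, .y, .y, .x, .y, .y, .y], 3) (by simp [TCPA.extra])
    change ((p .xi * p .y * p .y * p .x) * (p .y * p .y * p .y)) ^ 3 = 1
    simpa [pow_succ, mul_assoc] using h
  have h := TCA4.main (g := gA) (H := (⊥ : Subgroup P)) (by
      intro x
      cases x
      · rfl
      · exact (inv_inv _).symm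
      · exact (inv_eq_of_mul_eq_one_left hs).symm)
    (by
      intro x y
      cases x <;> cases y <;> first
        | exact pow_zero _
        | (simpa [TCA4.mm] using hs))
    (by
      intro q hq
      simp only [TCA4.extra, List.mem_cons, List.mem_nil_iff, or_false] at hq
      rcases hq with rfl | rfl | rfl | rfl
      · simpa using hu
      · simpa using hus
      · have e1 : ([TCA4.Lt.u, .ui].map gA).prod = 1 := by
          rw [List.map_cons, List.map_cons, List.map_nil, List.prod_cons, List.prod_cons, List.prod_nil, mul_one]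
          exact mul_inv_cancel (gA .u)
        exact (congrArg (· ^ 1) e1).trans (one_pow 1)
      · have e1 : ([TCA4.Lt.ui, .u].map gA).prod = 1 := by
          rw [List.map_cons, List.map_cons, List.map_nil, List.prod_cons, List.prod_cons, List.prod_nil, mul_one]
          exact inv_mul_cancel (gA .u)
        exact (congrArg (· ^ 1) e1).trans (one_pow 1))
    (by intro r hr; simp [TCA4.subs] at hr)
  exact card_le_bot h

theorem A4_le : A4 ≤ D := by
  unfold A4
  rw [Subgroup.closure_le]
  have hx : p .x ∈ D := Subgroup.subset_closure ⟨.x, rfl⟩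
  have hxi : p .xi ∈ D := Subgroup.subset_closure ⟨.xi, rfl⟩
  have hy : p .y ∈ D := Subgroup.subset_closure ⟨.y, rfl⟩
  rintro _ ⟨x, rfl⟩
  cases x
  · exact D.mul_mem (D.mul_mem (D.mul_mem hxi hy) hy) hx
  · exact D.inv_mem (D.mul_mem (D.mul_mem (D.mul_mem hxi hy) hy) hx)
  · exact D.mul_mem (D.mul_mem hy hy) hy

theorem D_le : D ≤ Subgroup.closure (Set.range p) := by
  unfold D
  apply Subgroup.closure_mono
  rintro _ ⟨x, rfl⟩
  exact ⟨jD x, rfl⟩

theorem card_top (n : ℕ) (h : Nat.card (Subgroup.closure (Set.range p)) ≤ n ∧ Nat.card (Subgroup.closure (Set.range p)) ≠ 0) :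
    Nat.card P ≤ n ∧ Nat.card P ≠ 0 := by
  rw [genP] at h
  have e : Nat.card (⊤ : Subgroup P) = Nat.card P := Nat.card_congr Subgroup.topEquiv.toEquiv
  rwa [e] at h

/-- first bound -/
theorem card_le0 : Nat.card P ≤ 532224000 ∧ Nat.card P ≠ 0 := by
  have h1 := card_le_step A4_le idxB A4_card
  have h2 := card_le_step D_le idxA h1
  have h3 := card_top _ h2
  exact ⟨h3.1.trans (by norm_num), h3.2⟩

theorem fin : Finite P := Nat.finite_of_card_ne_zero card_le0.2

theorem ker_le : Nat.card φ.ker ≤ 3 := by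
  have := fin
  have hr : Finite φ.range := Finite.of_surjective _ φ.rangeRestrict_surjective
  have h1 : 177408000 ≤ Nat.card φ.range := NP.order_ge mem_range
  have h2 : Nat.card φ.ker * Nat.card φ.range = Nat.card P := by
    have h3 := Subgroup.card_mul_index φ.ker
    rwa [Subgroup.index_ker] at h3
  by_contra hc
  have h4 : 4 * 177408000 ≤ Nat.card φ.ker * Nat.card φ.range := Nat.mul_le_mul (by omega) h1
  have h5 := card_le0.1
  omega

/-- the first element -/
def a : P := p .x * p .yi * p .x * p .yi * p .x * p .y * p .y * p .x * p .yi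
/-- the second element -/
def b : P := p .yi * p .x * p .y * p .xi
/-- the conjugating element -/
def g0 : P := p .z * p .yi * p .x * p .y * p .x * p .y * p .y * p .z

theorem wrd (w : List LP) (e : ℕ) (h : ((w.map NP.π).prod) ^ e = 1) : φ (((w.map p).prod) ^ e) = 1 := by
  rw [map_pow, map_word hφ, h]

theorem ezi : (p .z)⁻¹ = p .z := (hinv_of okP .z).symm

theorem c1 : a⁻¹ * b⁻¹ * a * b = 1 := by
  have := fin
  have ei : (p .x)⁻¹ = p .xi := exi.symm
  have fi : (p .y)⁻¹ = p .yi := eyi.symm
  have gi : (p .xi)⁻¹ = p .x := by rw [exi, inv_inv]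
  have hi : (p .yi)⁻¹ = p .y := by rw [eyi, inv_inv]
  refine ker_arg φ ker_le a b g0 ?_ ?_ ?_ ?_ ?_
  · have h := wrd _ _ NP.sw_1
    simpa [a, mul_assoc] using h
  · have h := wrd _ _ NP.sw_2
    simp only [List.map_cons, List.map_nil, List.prod_cons, List.prod_nil, mul_one, pow_one] at h
    have e : (g0 * g0)⁻¹ * a * (g0 * g0) * a = p .z * (p .yi * (p .yi * (p .xi * (p .yi * (p .xi * (p .y * (p .z * (p .z * (p .yi * (p .yi * (p .xi * (p .yi * (p .xi * (p .y * (p .z * (p .x * (p .yi * (p .x * (p .yi * (p .x * (p .y * (p .y * (p .x * (p .yi * (p .z * (p .yi * (p .x * (p .y * (p .x * (p .y * (p .y * (p .z * (p .z * (p .yi * (p .x * (p .y * (p .x * (p .y * (p .y * (p .z * (p .x * (p .yi * (p .x * (p .yi * (p .x * (p .y * (p .y * (p .x * p .yi)))))))))))))))))))))))))))))))))))))))))))))))) := by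
      simp only [g0, a, mul_inv_rev, ei, fi, gi, hi, ezi, mul_assoc]
    rw [e]
    exact h
  · have h := wrd _ _ NP.sw_3
    simp only [List.map_cons, List.map_nil, List.prod_cons, List.prod_nil, mul_one, pow_one] at h
    have e : (g0 * g0)⁻¹ * b * (g0 * g0) * b⁻¹ = p .z * (p .yi * (p .yi * (p .xi * (p .yi * (p .xi * (p .y * (p .z * (p .z * (p .yi * (p .yi * (p .xi * (p .yi * (p .xi * (p .y * (p .z * (p .yi * (p .x * (p .y * (p .xi * (p .z * (p .yi * (p .x * (p .y * (p .x * (p .y * (p .y * (p .z * (p .z * (p .yi * (p .x * (p .y * (p .x * (p .y * (p .y * (p .z * (p .x * (p .yi * (p .xi * p .y)))))))))))))))))))))))))))))))))))))) := by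
      simp only [g0, b, mul_inv_rev, ei, fi, gi, hi, ezi, mul_assoc]
    rw [e]
    exact h
  · have h := wrd _ _ NP.sw_0
    simp only [List.map_cons, List.map_nil, List.prod_cons, List.prod_nil, mul_one, pow_one] at h
    have e : a⁻¹ * b⁻¹ * a * b = p .y * (p .xi * (p .yi * (p .yi * (p .xi * (p .y * (p .xi * (p .y * (p .xi * (p .x * (p .yi * (p .xi * (p .y * (p .x * (p .yi * (p .x * (p .yi * (p .x * (p .y * (p .y * (p .x * (p .yi * (p .yi * (p .x * (p .y * p .xi)))))))))))))))))))))))) := by
      simp only [a, b, mul_inv_rev, ei, fi, gi, hi, mul_assoc]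
    rw [e]
    exact h
  · have h := okP.2 ([.xi, .yi, .x, .y], 3) (by simp [TCPA.extra])
    have h1 : (p .xi * p .yi * p .x * p .y) ^ 3 = 1 := by simpa [mul_assoc] using h
    have e : b ^ 3 = p .x * (p .xi * p .yi * p .x * p .y) ^ 3 * (p .x)⁻¹ := by
      have e1 : b = p .x * (p .xi * p .yi * p .x * p .y) * (p .x)⁻¹ := by
        unfold b
        rw [ei]
        simp only [← mul_assoc, xxi, one_mul]
      rw [e1]
      simp [pow_succ, mul_assoc]
    rw [e, h1]
    simp

theorem idxC : A4.relIndex D ≤ 42000 ∧ A4.relIndex D ≠ 0 := by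
  have e : D = Subgroup.closure (Set.range fun x => p (jD' x)) := by
    apply le_antisymm
    · apply Subgroup.closure_mono
      rintro _ ⟨x, rfl⟩
      cases x <;> [exact ⟨.x, rfl⟩; exact ⟨.xi, rfl⟩; exact ⟨.y, rfl⟩; exact ⟨.yi, rfl⟩]
    · apply Subgroup.closure_mono
      rintro _ ⟨x, rfl⟩
      cases x <;> [exact ⟨.x, rfl⟩; exact ⟨.xi, rfl⟩; exact ⟨.y, rfl⟩; exact ⟨.yi, rfl⟩]
  rw [e]
  have ei : (p .x)⁻¹ = p .xi := exi.symm
  have fi : (p .y)⁻¹ = p .yi := eyi.symm
  have gi : (p .xi)⁻¹ = p .x := by rw [exi, inv_inv]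
  have hi : (p .yi)⁻¹ = p .y := by rw [eyi, inv_inv]
  refine TCPC.main (g := fun x => p (jD' x)) (H := A4) (by intro x; have h := hinv_of okP (jD' x); cases x <;> exact h)
    (transfer_hp okP.1 jD' (by intro x y; cases x <;> cases y <;> decide)) ?_ ?_
  · intro q hq
    by_cases hq2 : (q.1.map jD', q.2) ∈ TCPA.extra
    · have := okP.2 _ hq2
      rwa [List.map_map] at this
    · simp only [TCPC.extra, List.mem_cons, List.mem_nil_iff, or_false] at hq
      rcases hq with rfl | rfl | rfl | rfl | rfl | rfl | rfl | rfl | rfl | rfl | rfl <;> first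
        | exact absurd (by decide) hq2
        | skip
      have h := c1
      have e2 : a⁻¹ * b⁻¹ * a * b = p .y * (p .xi * (p .yi * (p .yi * (p .xi * (p .y * (p .xi * (p .y * (p .xi * (p .x * (p .yi * (p .xi * (p .y * (p .x * (p .yi * (p .x * (p .yi * (p .x * (p .y * (p .y * (p .x * (p .yi * (p .yi * (p .x * (p .y * p .xi)))))))))))))))))))))))) := by
        simp only [a, b, mul_inv_rev, ei, fi, gi, hi, mul_assoc]
      rw [e2] at h
      simp only [List.map_cons, List.map_nil, List.prod_cons, List.prod_nil, mul_one, pow_one]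
      change p .y * (p .xi * (p .yi * (p .yi * (p .xi * (p .y * (p .xi * (p .xi * (p .y * (p .x * (p .yi * (p .x * (p .yi * (p .x * (p .y * (p .y * (p .x * (p .yi * (p .yi * (p .x * (p .y * p .xi)))))))))))))))))))) = 1
      rw [← h]
      have s1 : ∀ t : P, p .xi * (p .x * t) = t := fun t => by rw [← mul_assoc, xix, one_mul]
      have s2 : ∀ t : P, p .y * (p .yi * t) = t := fun t => by rw [← mul_assoc, eyi, mul_inv_cancel, one_mul]
      simp only [s1, s2]
  · intro r hr
    simp only [TCPC.subs, List.mem_cons, List.mem_nil_iff, or_false] at hr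
    rcases hr with rfl | rfl
    · have : (List.map (fun x => p (jD' x)) [TCPC.Lt.xi, .y, .y, .x]).prod = gA .u := by
        simp [jD', gA, mul_assoc]
      rw [this]
      exact Subgroup.subset_closure ⟨.u, rfl⟩
    · have : (List.map (fun x => p (jD' x)) [TCPC.Lt.y, .y, .y]).prod = gA .s := by
        simp [jD', gA, mul_assoc]
      rw [this]
      exact Subgroup.subset_closure ⟨.s, rfl⟩

/-- sharp bound -/
theorem card_le1 : Nat.card P ≤ 177408000 ∧ Nat.card P ≠ 0 := by
  have h1 := card_le_step A4_le idxC A4_card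
  have h2 := card_le_step D_le idxA h1
  have h3 := card_top _ h2
  exact ⟨h3.1.trans (by norm_num), h3.2⟩

theorem card_inj : Nat.card P = 177408000 ∧ Function.Injective φ := by
  have := fin
  have : Finite φ.range := Finite.of_surjective _ φ.rangeRestrict_surjective
  exact card_eq_and_inj card_le1 φ (NP.order_ge mem_range)

/-- a relation of the model holds in every group satisfying the presentation -/
theorem rel_of_model {G : Type} [Group G] {g : LP → G} (hg : RelOK TCPA.mm TCPA.extra g) (w : List LP) (e : ℕ)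
    (h : ((w.map NP.π).prod) ^ e = 1) : ((w.map g).prod) ^ e = 1 := by
  obtain ⟨α, hα⟩ := exists_lift hg
  have h1 : ((w.map p).prod) ^ e = 1 := card_inj.2 (by rw [wrd w e h, map_one])
  have h2 := congrArg α h1
  rw [map_one, map_pow, map_list_prod, List.map_map] at h2
  have e : (α ∘ p : LP → G) = g := funext hα
  rw [e] at h2
  exact h2

end H9.HN.PMain
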