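import Mathlib
import Cfsg.Agent.Lib.H35.NetKit
import Cfsg.Agent.Lib.H35.SubHom
import Cfsg.Agent.Lib.H9.HN.TCS5

/-!
# The presentation on `x, t, z` inside the presentation of the Harada-Norton group defines the symmetric group of degree 5
-/

set_option autoImplicit false
set_option linter.all false
set_option maxRecDepth 10000

namespace H9.HN.S5M

open H35.TC H35.Net

abbrev L5 := H9.HN.TCS5.Lt

/-- the presented group on x, t, z -/
abbrev P5 := PresentedGroup (relSet TCS5.mm TCS5.extra)

/-- generators -/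
def p5 : L5 → P5 := fun x => PresentedGroup.of x

theorem okP5 : RelOK TCS5.mm TCS5.extra p5 := relOK_of _ _

theorem hinv5 {G : Type} [Group G] {g : L5 → G} (h : RelOK TCS5.mm TCS5.extra g) :
    ∀ x, g (TCS5.inv x) = (g x)⁻¹ := by
  obtain ⟨hp, he⟩ := h
  intro x
  cases x
  · have h1 := he ([.x, .xi], 1) (by simp [TCS5.extra])
    have h2 : g .x * g .xi = 1 := by simpa using h1
    exact (inv_eq_of_mul_eq_one_right h2).symm
  · have h1 := he ([.x, .xi], 1) (by simp [TCS5.extra])
    have h2 : g .x * g .xi = 1 := by simpa using h1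
    exact (inv_eq_of_mul_eq_one_left h2).symm
  · have h1 := he ([.t, .ti], 1) (by simp [TCS5.extra])
    have h2 : g .t * g .ti = 1 := by simpa using h1
    exact (inv_eq_of_mul_eq_one_right h2).symm
  · have h1 := he ([.t, .ti], 1) (by simp [TCS5.extra])
    have h2 : g .t * g .ti = 1 := by simpa using h1
    exact (inv_eq_of_mul_eq_one_left h2).symm
  · have h1 := hp .z .z
    have h2 : g .z * g .z = 1 := by simpa [TCS5.mm] using h1
    exact (inv_eq_of_mul_eq_one_left h2).symm

/-- images -/
def px : Equiv.Perm (Fin 5) := ⟨![0, 2, 4, 1, 3], ![0, 3, 1, 4, 2], by decide, by decide⟩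
def pt : Equiv.Perm (Fin 5) := ⟨![1, 2, 3, 4, 0], ![4, 0, 1, 2, 3], by decide, by decide⟩
def pz : Equiv.Perm (Fin 5) := ⟨![0, 2, 1, 4, 3], ![0, 2, 1, 4, 3], by decide, by decide⟩

/-- images -/
def π5 : L5 → Equiv.Perm (Fin 5)
  | .x => px
  | .xi => px⁻¹
  | .t => pt
  | .ti => pt⁻¹
  | .z => pz

theorem ok5 : RelOK TCS5.mm TCS5.extra π5 := by
  constructor
  · intro x y
    cases x <;> cases y <;> first
      | exact pow_zero _
      | decide +kernel
  · decide +kernel

/-- the action on 5 points -/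
noncomputable def φ5 : P5 →* Equiv.Perm (Fin 5) := (exists_lift ok5).choose

theorem hφ5 : ∀ x, φ5 (p5 x) = π5 x := (exists_lift ok5).choose_spec

theorem gen5 : Subgroup.closure (Set.range p5) = ⊤ := PresentedGroup.closure_range_of _

theorem card5_le : Nat.card P5 ≤ 120 ∧ Nat.card P5 ≠ 0 := by
  have h := card_le_bot (TCS5.main (g := p5) (H := (⊥ : Subgroup P5)) (hinv5 okP5) okP5.1 okP5.2
    (by intro r hr; simp [TCS5.subs] at hr))
  rw [gen5] at h
  have e : Nat.card (⊤ : Subgroup P5) = Nat.card P5 := Nat.card_congr Subgroup.topEquiv.toEquiv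
  rwa [e] at h

theorem surj5 : Function.Surjective φ5 := by
  rw [← MonoidHom.range_eq_top, eq_top_iff]
  have hc : pt.IsCycle := by
    refine ⟨0, by decide, ?_⟩
    intro y _
    have : ∀ y : Fin 5, ∃ i : Fin 5, (pt ^ (i : ℕ)) 0 = y := by decide +kernel
    obtain ⟨i, hi⟩ := this y
    exact ⟨(i : ℕ), by simpa using hi⟩
  have hs : pt.support = Finset.univ := by decide +kernel
  have hq : Equiv.Perm.IsSwap (pz * px) := ⟨2, 3, by decide, by decide +kernel⟩
  rw [← Equiv.Perm.closure_prime_cycle_swap (by rw [Fintype.card_fin]; norm_num) hc hs hq, Subgroup.closure_le]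
  rintro f (rfl | rfl)
  · exact ⟨p5 .t, hφ5 .t⟩
  · exact ⟨p5 .z * p5 .x, by rw [map_mul, hφ5, hφ5]; rfl⟩

theorem inj5 : Function.Injective φ5 := by
  have hf : Finite P5 := Nat.finite_of_card_ne_zero card5_le.2
  have : Fintype P5 := Fintype.ofFinite P5
  have h1 : Fintype.card (Equiv.Perm (Fin 5)) ≤ Fintype.card P5 := Fintype.card_le_of_surjective _ surj5
  have h2 : Fintype.card P5 ≤ 120 := by rw [← Nat.card_eq_fintype_card]; exact card5_le.1
  have h3 : Fintype.card (Equiv.Perm (Fin 5)) = 120 := by rw [Fintype.card_perm, Fintype.card_fin]; rfl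
  exact ((Fintype.bijective_iff_surjective_and_card φ5).2 ⟨surj5, by omega⟩).1

/-- a relation of the model holds in every group satisfying the presentation -/
theorem rel_of_model5 {G : Type} [Group G] {g : L5 → G} (hg : RelOK TCS5.mm TCS5.extra g) (w : List L5) (e : ℕ)
    (h : ((w.map π5).prod) ^ e = 1) : ((w.map g).prod) ^ e = 1 := by
  obtain ⟨α, hα⟩ := exists_lift hg
  have h0 : φ5 (((w.map p5).prod) ^ e) = 1 := by
    rw [map_pow, map_list_prod, List.map_map]
    have e2 : (φ5 ∘ p5 : L5 → _) = π5 := funext hφ5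
    rw [e2]
    exact h
  have h1 : ((w.map p5).prod) ^ e = 1 := inj5 (by rw [h0, map_one])
  have h2 := congrArg α h1
  rw [map_one, map_pow, map_list_prod, List.map_map] at h2
  have e3 : (α ∘ p5 : L5 → G) = g := funext hα
  rw [e3] at h2
  exact h2

end H9.HN.S5M
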