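import Mathlib
import Cfsg.Agent.Lib.H9.HN.PMain
import Cfsg.Agent.Lib.H9.HN.S5M

/-!
# The Harada-Norton presentation: relations in the subgroups generated by `x, y, z` and by `x, z, t`
-/

set_option autoImplicit false
set_option linter.all false
set_option maxRecDepth 20000

namespace H9.HN.Up

open H35.TC H35.Net

/-- the relations of the Harada-Norton group -/
structure Rels {G : Type} [Group G] (x y z t : G) : Prop where
  r1 : y ^ 6 = 1
  r2 : (x ^ 2) * y * (x ^ 2) * (y⁻¹) = 1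
  r3 : (x⁻¹ * y⁻¹ * x * y) ^ 3 = 1
  r4 : ((x⁻¹) * (y ^ 2) * x * (y ^ 3)) ^ 3 = 1
  r5 : (x * y) ^ 8 = 1
  r6 : (x * y * x * (y ^ 3)) ^ 4 = 1
  r7 : z ^ 2 = 1
  r8 : (z * x) ^ 2 = 1
  r9 : (z⁻¹ * (y * x * y * x * (y ^ 2) * x * (y⁻¹))⁻¹ * z * (y * x * y * x * (y ^ 2) * x * (y⁻¹))) * ((x ^ 2)⁻¹) = 1
  r10 : z * (((((y ^ 3) * x * y * x * y)⁻¹ * z * ((y ^ 3) * x * y * x * y)) * x) ^ 3) = 1
  r11 : t ^ 5 = 1
  r12 : (x⁻¹ * t * x) * (t ^ 2) = 1
  r13 : t⁻¹ * y⁻¹ * t * y = 1
  r14 : (z * t) ^ 3 = 1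

variable {G : Type} [Group G] {x y z t : G}

/-- letters of `P` -/
def gP (x y z : G) : H9.HN.TCPA.Lt → G
  | .x => x
  | .xi => x⁻¹
  | .y => y
  | .yi => y⁻¹
  | .z => z

/-- letters of `S5` -/
def g5 (x z t : G) : H9.HN.TCS5.Lt → G
  | .x => x
  | .xi => x⁻¹
  | .t => t
  | .ti => t⁻¹
  | .z => z

theorem zz (h : Rels x y z t) : z * z = 1 := by have := h.r7; rwa [pow_two] at this
theorem zi (h : Rels x y z t) : z⁻¹ = z := inv_eq_of_mul_eq_one_left (zz h)

theorem okgP (h : Rels x y z t) : RelOK TCPA.mm TCPA.extra (gP x y z) := by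
  constructor
  · intro a b
    cases a <;> cases b <;> first
      | exact pow_zero _
      | (have := zz h; simpa [TCPA.mm, gP] using this)
  · intro p hp
    simp only [TCPA.extra, List.mem_cons, List.mem_nil_iff, or_false] at hp
    rcases hp with rfl | rfl | rfl | rfl | rfl | rfl | rfl | rfl | rfl | rfl | rfl | rfl | rfl
    · simpa [gP] using h.r8
    · simpa [gP] using h.r1
    · have := h.r2
      simpa [gP, pow_two, mul_assoc] using this
    · have := h.r3
      simpa [gP, mul_assoc] using this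
    · simpa [gP] using h.r5
    · have := h.r9
      rw [zi h] at this
      have e : ([TCPA.Lt.z, .y, .xi, .yi, .yi, .xi, .yi, .xi, .yi, .z, .y, .x, .y, .x, .y, .y, .x, .yi, .xi, .xi].map (gP x y z)).prod =
          (z * (y * x * y * x * (y ^ 2) * x * (y⁻¹))⁻¹ * z * (y * x * y * x * (y ^ 2) * x * (y⁻¹))) * ((x ^ 2)⁻¹) := by
        simp [gP, pow_two, mul_assoc, mul_inv_rev]
      exact (congrArg (· ^ 1) (e.trans this)).trans (one_pow 1)
    · have := h.r4
      have e : ([TCPA.Lt.xi, .y, .y, .x, .y, .y, .y].map (gP x y z)).prod = (x⁻¹) * (y ^ 2) * x * (y ^ 3) := by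
        simp [gP, pow_succ, mul_assoc]
      exact (congrArg (· ^ 3) e).trans this
    · have := h.r6
      have e : ([TCPA.Lt.x, .y, .x, .y, .y, .y].map (gP x y z)).prod = (x * y * x * (y ^ 3)) := by
        simp [gP, pow_succ, mul_assoc]
      exact (congrArg (· ^ 4) e).trans this
    · have := h.r10
      have e : ([TCPA.Lt.z, .yi, .xi, .yi, .xi, .yi, .yi, .yi, .z, .y, .y, .y, .x, .y, .x, .y, .x, .yi, .xi, .yi, .xi, .yi, .yi, .yi, .z, .y, .y, .y, .x, .y, .x, .y, .x, .yi, .xi, .yi, .xi, .yi, .yi, .yi, .z, .y, .y, .y, .x, .y, .x, .y, .x].map (gP x y z)).prod =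
          z * (((((y ^ 3) * x * y * x * y)⁻¹ * z * ((y ^ 3) * x * y * x * y)) * x) ^ 3) := by
        simp [gP, pow_succ, mul_assoc, mul_inv_rev]
      exact (congrArg (· ^ 1) (e.trans this)).trans (one_pow 1)
    · simp [gP]
    · simp [gP]
    · simp [gP]
    · simp [gP]

theorem x4 (h : Rels x y z t) : x ^ 4 = 1 := by
  have h1 := H9.HN.PMain.rel_of_model (okgP h) [.z, .x, .z] 4 H9.HN.NP.sw_6
  have h2 : (z * x * z⁻¹) ^ 4 = 1 := by
    rw [zi h]
    simpa [gP, mul_assoc] using h1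
  rw [conj_pow] at h2
  exact conj_eq_one_iff.1 h2

theorem okg5 (h : Rels x y z t) : RelOK TCS5.mm TCS5.extra (g5 x z t) := by
  constructor
  · intro a b
    cases a <;> cases b <;> first
      | exact pow_zero _
      | (have := zz h; simpa [TCS5.mm, g5] using this)
  · intro p hp
    simp only [TCS5.extra, List.mem_cons, List.mem_nil_iff, or_false] at hp
    rcases hp with rfl | rfl | rfl | rfl | rfl | rfl | rfl | rfl | rfl
    · simpa [g5] using x4 h
    · simpa [g5] using h.r8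
    · simpa [g5] using h.r11
    · have := h.r12
      simpa [g5, pow_two, mul_assoc] using this
    · simpa [g5] using h.r14
    · simp [g5]
    · simp [g5]
    · simp [g5]
    · simp [g5]

theorem vv (h : Rels x y z t) : (x * (x * t)) * (x * (x * t)) = 1 := by
  have := H9.HN.S5M.rel_of_model5 (okg5 h) [.x, .x, .t] 2 (by decide +kernel)
  simpa [g5, pow_two] using this

end H9.HN.Up
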