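import Cfsg.Agent.Lib.H9.HN.TCHN.Snd
import Cfsg.Agent.Lib.H9.HN.TCHN.R0
import Cfsg.Agent.Lib.H9.HN.TCHN.R1
import Cfsg.Agent.Lib.H9.HN.TCHN.R2
import Cfsg.Agent.Lib.H9.HN.TCHN.R3
import Cfsg.Agent.Lib.H9.HN.TCHN.R4
import Cfsg.Agent.Lib.H9.HN.TCHN.R5
import Cfsg.Agent.Lib.H9.HN.TCHN.R6
import Cfsg.Agent.Lib.H9.HN.TCHN.R7
import Cfsg.Agent.Lib.H9.HN.TCHN.R8
import Cfsg.Agent.Lib.H9.HN.TCHN.R9
import Cfsg.Agent.Lib.H9.HN.TCHN.R10
import Cfsg.Agent.Lib.H9.HN.TCHN.R11
import Cfsg.Agent.Lib.H9.HN.TCHN.R12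
import Cfsg.Agent.Lib.H9.HN.TCHN.R13
import Cfsg.Agent.Lib.H9.HN.TCHN.R14
import Cfsg.Agent.Lib.H9.HN.TCHN.R15
import Cfsg.Agent.Lib.H9.HN.TCHN.R16
import Cfsg.Agent.Lib.H9.HN.TCHN.R17
import Cfsg.Agent.Lib.H9.HN.TCHN.R18
import Cfsg.Agent.Lib.H9.HN.TCHN.R19
import Cfsg.Agent.Lib.H9.HN.TCHN.R20
import Cfsg.Agent.Lib.H9.HN.TCHN.R21
import Cfsg.Agent.Lib.H9.HN.TCHN.R22
import Cfsg.Agent.Lib.H9.HN.TCHN.R23
import Cfsg.Agent.Lib.H9.HN.TCHN.R24
import Cfsg.Agent.Lib.H9.HN.TCHN.R25
import Cfsg.Agent.Lib.H9.HN.TCHN.R26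
import Cfsg.Agent.Lib.H9.HN.TCHN.R27
import Cfsg.Agent.Lib.H9.HN.TCHN.R28
import Cfsg.Agent.Lib.H9.HN.TCHN.R29
import Cfsg.Agent.Lib.H9.HN.TCHN.R30
import Cfsg.Agent.Lib.H9.HN.TCHN.R31
import Cfsg.Agent.Lib.H9.HN.TCHN.R32
import Cfsg.Agent.Lib.H9.HN.TCHN.R33
import Cfsg.Agent.Lib.H9.HN.TCHN.L0
import Cfsg.Agent.Lib.H9.HN.TCHN.L1
import Cfsg.Agent.Lib.H9.HN.TCHN.L2
import Cfsg.Agent.Lib.H9.HN.TCHN.L3
import Cfsg.Agent.Lib.H9.HN.TCHN.L4
import Cfsg.Agent.Lib.H9.HN.TCHN.L5
import Cfsg.Agent.Lib.H9.HN.TCHN.L6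
import Cfsg.Agent.Lib.H9.HN.TCHN.L7

/-!  -/

set_option autoImplicit false
set_option maxRecDepth 100000
set_option linter.all false
namespace H9.HN.TCHN
open H35.TC
theorem cnt_zero (k lo : ℕ) (h : M ≤ lo) : cntB liveP k lo = 0 := by
  rw [← cntB_spec, Finset.card_eq_zero, Finset.filter_eq_empty_iff]
  intro u hu
  have h2 := (Finset.mem_Ico.1 hu).1
  have h3 : Nat.ble M u = true := Nat.ble_eq_true_of_le (le_trans h h2)
  unfold liveP
  rw [h3]
  simp
theorem cnt_step (k lo a b : ℕ) (h1 : cntB liveP k lo = a) (h2 : cntB liveP k (lo + 2 ^ k) = b) : cntB liveP (k + 1) lo = a + b := by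
  have e : cntB liveP (k + 1) lo = cntB liveP k lo + cntB liveP k (lo + 2 ^ k) := rfl
  rw [e, h1, h2]
theorem c_16_0 : cntB liveP 16 0 = 57465 := cnt_step 15 0 27598 29867 l_0 l_1
theorem c_16_65536 : cntB liveP 16 65536 = 61002 := cnt_step 15 65536 30397 30605 l_2 l_3
theorem c_17_0 : cntB liveP 17 0 = 118467 := cnt_step 16 0 57465 61002 c_16_0 c_16_65536
theorem c_16_131072 : cntB liveP 16 131072 = 59587 := cnt_step 15 131072 30283 29304 l_4 l_5
theorem c_16_196608 : cntB liveP 16 196608 = 58363 := cnt_step 15 196608 28912 29451 l_6 l_7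
theorem c_17_131072 : cntB liveP 17 131072 = 117950 := cnt_step 16 131072 59587 58363 c_16_131072 c_16_196608
theorem c_18_0 : cntB liveP 18 0 = 236417 := cnt_step 17 0 118467 117950 c_17_0 c_17_131072
theorem c_16_262144 : cntB liveP 16 262144 = 59008 := cnt_step 15 262144 29227 29781 l_8 l_9
theorem c_16_327680 : cntB liveP 16 327680 = 59673 := cnt_step 15 327680 29534 30139 l_10 l_11
theorem c_17_262144 : cntB liveP 17 262144 = 118681 := cnt_step 16 262144 59008 59673 c_16_262144 c_16_327680
theorem c_16_393216 : cntB liveP 16 393216 = 60400 := cnt_step 15 393216 30271 30129 l_12 l_13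
theorem c_16_458752 : cntB liveP 16 458752 = 59587 := cnt_step 15 458752 29863 29724 l_14 l_15
theorem c_17_393216 : cntB liveP 17 393216 = 119987 := cnt_step 16 393216 60400 59587 c_16_393216 c_16_458752
theorem c_18_262144 : cntB liveP 18 262144 = 238668 := cnt_step 17 262144 118681 119987 c_17_262144 c_17_393216
theorem c_19_0 : cntB liveP 19 0 = 475085 := cnt_step 18 0 236417 238668 c_18_0 c_18_262144
theorem c_16_524288 : cntB liveP 16 524288 = 59451 := cnt_step 15 524288 29718 29733 l_16 l_17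
theorem c_16_589824 : cntB liveP 16 589824 = 59533 := cnt_step 15 589824 29784 29749 l_18 l_19
theorem c_17_524288 : cntB liveP 17 524288 = 118984 := cnt_step 16 524288 59451 59533 c_16_524288 c_16_589824
theorem c_16_655360 : cntB liveP 16 655360 = 59874 := cnt_step 15 655360 29721 30153 l_20 l_21
theorem c_16_720896 : cntB liveP 16 720896 = 60404 := cnt_step 15 720896 30229 30175 l_22 l_23
theorem c_17_655360 : cntB liveP 17 655360 = 120278 := cnt_step 16 655360 59874 60404 c_16_655360 c_16_720896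
theorem c_18_524288 : cntB liveP 18 524288 = 239262 := cnt_step 17 524288 118984 120278 c_17_524288 c_17_655360
theorem c_16_786432 : cntB liveP 16 786432 = 60872 := cnt_step 15 786432 30298 30574 l_24 l_25
theorem c_16_851968 : cntB liveP 16 851968 = 61229 := cnt_step 15 851968 30672 30557 l_26 l_27
theorem c_17_786432 : cntB liveP 17 786432 = 122101 := cnt_step 16 786432 60872 61229 c_16_786432 c_16_851968
theorem c_16_917504 : cntB liveP 16 917504 = 61925 := cnt_step 15 917504 30721 31204 l_28 l_29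
theorem c_16_983040 : cntB liveP 16 983040 = 62404 := cnt_step 15 983040 31219 31185 l_30 l_31
theorem c_17_917504 : cntB liveP 17 917504 = 124329 := cnt_step 16 917504 61925 62404 c_16_917504 c_16_983040
theorem c_18_786432 : cntB liveP 18 786432 = 246430 := cnt_step 17 786432 122101 124329 c_17_786432 c_17_917504
theorem c_19_524288 : cntB liveP 19 524288 = 485692 := cnt_step 18 524288 239262 246430 c_18_524288 c_18_786432
theorem c_20_0 : cntB liveP 20 0 = 960777 := cnt_step 19 0 475085 485692 c_19_0 c_19_524288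
theorem c_16_1048576 : cntB liveP 16 1048576 = 63044 := cnt_step 15 1048576 31466 31578 l_32 l_33
theorem c_16_1114112 : cntB liveP 16 1114112 = 63885 := cnt_step 15 1114112 31942 31943 l_34 l_35
theorem c_17_1048576 : cntB liveP 17 1048576 = 126929 := cnt_step 16 1048576 63044 63885 c_16_1048576 c_16_1114112
theorem c_16_1179648 : cntB liveP 16 1179648 = 64460 := cnt_step 15 1179648 32263 32197 l_36 l_37
theorem c_16_1245184 : cntB liveP 16 1245184 = 64851 := cnt_step 15 1245184 32366 32485 l_38 l_39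
theorem c_17_1179648 : cntB liveP 17 1179648 = 129311 := cnt_step 16 1179648 64460 64851 c_16_1179648 c_16_1245184
theorem c_18_1048576 : cntB liveP 18 1048576 = 256240 := cnt_step 17 1048576 126929 129311 c_17_1048576 c_17_1179648
theorem c_16_1310720 : cntB liveP 16 1310720 = 65180 := cnt_step 15 1310720 32555 32625 l_40 l_41
theorem c_16_1376256 : cntB liveP 16 1376256 = 65364 := cnt_step 15 1376256 32668 32696 l_42 l_43
theorem c_17_1310720 : cntB liveP 17 1310720 = 130544 := cnt_step 16 1310720 65180 65364 c_16_1310720 c_16_1376256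
theorem c_16_1441792 : cntB liveP 16 1441792 = 65466 := cnt_step 15 1441792 32730 32736 l_44 l_45
theorem c_16_1507328 : cntB liveP 16 1507328 = 65510 := cnt_step 15 1507328 32755 32755 l_46 l_47
theorem c_17_1441792 : cntB liveP 17 1441792 = 130976 := cnt_step 16 1441792 65466 65510 c_16_1441792 c_16_1507328
theorem c_18_1310720 : cntB liveP 18 1310720 = 261520 := cnt_step 17 1310720 130544 130976 c_17_1310720 c_17_1441792
theorem c_19_1048576 : cntB liveP 19 1048576 = 517760 := cnt_step 18 1048576 256240 261520 c_18_1048576 c_18_1310720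
theorem c_16_1572864 : cntB liveP 16 1572864 = 60463 := cnt_step 15 1572864 32763 27700 l_48 l_49
theorem c_17_1572864 : cntB liveP 17 1572864 = 60463 := cnt_step 16 1572864 60463 0 c_16_1572864 (cnt_zero 16 1638400 (by decide))
theorem c_18_1572864 : cntB liveP 18 1572864 = 60463 := cnt_step 17 1572864 60463 0 c_17_1572864 (cnt_zero 17 1703936 (by decide))
theorem c_19_1572864 : cntB liveP 19 1572864 = 60463 := cnt_step 18 1572864 60463 0 c_18_1572864 (cnt_zero 18 1835008 (by decide))
theorem c_20_1048576 : cntB liveP 20 1048576 = 578223 := cnt_step 19 1048576 517760 60463 c_19_1048576 c_19_1572864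
theorem c_21_0 : cntB liveP 21 0 = 1539000 := cnt_step 20 0 960777 578223 c_20_0 c_20_1048576
theorem cnt_live : cntB liveP 21 0 = 1539000 := c_21_0
theorem all_nodes : ∀ u, u < M → chkP u = true := by
  intro u hu
  have hu' : u < 1633333 := hu
  have h0 : 0 ≤ u := Nat.zero_le u
  rcases Nat.lt_or_ge u 49152 with h | h
  · exact blk_0 u (by omega) h
  clear h0
  rename' h => h0
  rcases Nat.lt_or_ge u 98304 with h | h
  · exact blk_1 u (by omega) h
  clear h0
  rename' h => h0
  rcases Nat.lt_or_ge u 147456 with h | h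
  · exact blk_2 u (by omega) h
  clear h0
  rename' h => h0
  rcases Nat.lt_or_ge u 196608 with h | h
  · exact blk_3 u (by omega) h
  clear h0
  rename' h => h0
  rcases Nat.lt_or_ge u 245760 with h | h
  · exact blk_4 u (by omega) h
  clear h0
  rename' h => h0
  rcases Nat.lt_or_ge u 294912 with h | h
  · exact blk_5 u (by omega) h
  clear h0
  rename' h => h0
  rcases Nat.lt_or_ge u 344064 with h | h
  · exact blk_6 u (by omega) h
  clear h0
  rename' h => h0
  rcases Nat.lt_or_ge u 393216 with h | h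
  · exact blk_7 u (by omega) h
  clear h0
  rename' h => h0
  rcases Nat.lt_or_ge u 442368 with h | h
  · exact blk_8 u (by omega) h
  clear h0
  rename' h => h0
  rcases Nat.lt_or_ge u 491520 with h | h
  · exact blk_9 u (by omega) h
  clear h0
  rename' h => h0
  rcases Nat.lt_or_ge u 540672 with h | h
  · exact blk_10 u (by omega) h
  clear h0
  rename' h => h0
  rcases Nat.lt_or_ge u 589824 with h | h
  · exact blk_11 u (by omega) h
  clear h0
  rename' h => h0
  rcases Nat.lt_or_ge u 638976 with h | h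
  · exact blk_12 u (by omega) h
  clear h0
  rename' h => h0
  rcases Nat.lt_or_ge u 688128 with h | h
  · exact blk_13 u (by omega) h
  clear h0
  rename' h => h0
  rcases Nat.lt_or_ge u 737280 with h | h
  · exact blk_14 u (by omega) h
  clear h0
  rename' h => h0
  rcases Nat.lt_or_ge u 786432 with h | h
  · exact blk_15 u (by omega) h
  clear h0
  rename' h => h0
  rcases Nat.lt_or_ge u 835584 with h | h
  · exact blk_16 u (by omega) h
  clear h0
  rename' h => h0
  rcases Nat.lt_or_ge u 884736 with h | h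
  · exact blk_17 u (by omega) h
  clear h0
  rename' h => h0
  rcases Nat.lt_or_ge u 933888 with h | h
  · exact blk_18 u (by omega) h
  clear h0
  rename' h => h0
  rcases Nat.lt_or_ge u 983040 with h | h
  · exact blk_19 u (by omega) h
  clear h0
  rename' h => h0
  rcases Nat.lt_or_ge u 1032192 with h | h
  · exact blk_20 u (by omega) h
  clear h0
  rename' h => h0
  rcases Nat.lt_or_ge u 1081344 with h | h
  · exact blk_21 u (by omega) h
  clear h0
  rename' h => h0
  rcases Nat.lt_or_ge u 1130496 with h | h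
  · exact blk_22 u (by omega) h
  clear h0
  rename' h => h0
  rcases Nat.lt_or_ge u 1179648 with h | h
  · exact blk_23 u (by omega) h
  clear h0
  rename' h => h0
  rcases Nat.lt_or_ge u 1228800 with h | h
  · exact blk_24 u (by omega) h
  clear h0
  rename' h => h0
  rcases Nat.lt_or_ge u 1277952 with h | h
  · exact blk_25 u (by omega) h
  clear h0
  rename' h => h0
  rcases Nat.lt_or_ge u 1327104 with h | h
  · exact blk_26 u (by omega) h
  clear h0
  rename' h => h0
  rcases Nat.lt_or_ge u 1376256 with h | h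
  · exact blk_27 u (by omega) h
  clear h0
  rename' h => h0
  rcases Nat.lt_or_ge u 1425408 with h | h
  · exact blk_28 u (by omega) h
  clear h0
  rename' h => h0
  rcases Nat.lt_or_ge u 1474560 with h | h
  · exact blk_29 u (by omega) h
  clear h0
  rename' h => h0
  rcases Nat.lt_or_ge u 1523712 with h | h
  · exact blk_30 u (by omega) h
  clear h0
  rename' h => h0
  rcases Nat.lt_or_ge u 1572864 with h | h
  · exact blk_31 u (by omega) h
  clear h0
  rename' h => h0
  rcases Nat.lt_or_ge u 1622016 with h | h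
  · exact blk_32 u (by omega) h
  clear h0
  rename' h => h0
  rcases Nat.lt_or_ge u 1634304 with h | h
  · exact blk_33 u (by omega) h
  clear h0
  rename' h => h0
  omega
/-- **certificate**: in any group `G` with elements `g` satisfying the relators `rels`, a subgroup `H` containing
the words `subs` has relative index at most 1539000 in the subgroup generated by `g`. -/
theorem main {G : Type} [Group G] {g : Lt → G} {H : Subgroup G} (hinv : ∀ x, g (inv x) = (g x)⁻¹)
    (hp : ∀ x y, (g x * g y) ^ mm x y = 1) (he : ∀ p ∈ extra, ((p.1.map g).prod) ^ p.2 = 1)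
    (hH : ∀ r ∈ subs, (r.map g).prod ∈ H) :
    H.relIndex (Subgroup.closure (Set.range g)) ≤ 1539000 ∧ H.relIndex (Subgroup.closure (Set.range g)) ≠ 0 :=
  final hinv (mkRels_ok hp he) hH all_nodes cnt_live
end H9.HN.TCHN
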