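import Mathlib
import Cfsg.Agent.Lib.H9.HN.HNRel
import Cfsg.Agent.Lib.H9.HN.TCHN

/-!
# The Harada-Norton presentation: the subgroup generated by `x, y, z` has index at most 1539000
-/

set_option autoImplicit false
set_option linter.all false
set_option maxRecDepth 20000

namespace H9.HN.Up

open H35.TC H35.Net

variable {G : Type} [Group G] {x y z t : G}

/-- letters of the certificate -/
def gM (x y z t : G) : H9.HN.TCHN.Lt → G
  | .y => y
  | .yi => y⁻¹
  | .z => z
  | .q => z * x
  | .v => x * (x * t)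

/-- expansion of words without `v` -/
def exH : H9.HN.TCHN.Lt → List H9.HN.TCPA.Lt
  | .y => [.y]
  | .yi => [.yi]
  | .z => [.z]
  | .q => [.z, .x]
  | .v => []

/-- expansion of words without `y` -/
def exS : H9.HN.TCHN.Lt → List H9.HN.TCS5.Lt
  | .y => []
  | .yi => []
  | .z => [.z]
  | .q => [.z, .x]
  | .v => [.x, .x, .t]

theorem mapH (w : List H9.HN.TCHN.Lt) (hw : ∀ c ∈ w, c ≠ .v) :
    (w.map (gM x y z t)).prod = ((w.flatMap exH).map (gP x y z)).prod := by
  induction w with
  | nil => rfl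
  | cons a w ih =>
    rw [List.map_cons, List.prod_cons, List.flatMap_cons, List.map_append, List.prod_append,
      ih (fun c hc => hw c (List.mem_cons_of_mem _ hc))]
    congr 1
    have ha := hw a (List.mem_cons_self)
    cases a
    · simp [gM, exH, gP]
    · simp [gM, exH, gP]
    · simp [gM, exH, gP]
    · simp [gM, exH, gP]
    · exact absurd rfl ha

theorem mapS (w : List H9.HN.TCHN.Lt) (hw : ∀ c ∈ w, c ≠ .y ∧ c ≠ .yi) :
    (w.map (gM x y z t)).prod = ((w.flatMap exS).map (g5 x z t)).prod := by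
  induction w with
  | nil => rfl
  | cons a w ih =>
    rw [List.map_cons, List.prod_cons, List.flatMap_cons, List.map_append, List.prod_append,
      ih (fun c hc => hw c (List.mem_cons_of_mem _ hc))]
    congr 1
    have ha := hw a (List.mem_cons_self)
    cases a
    · exact absurd rfl ha.1
    · exact absurd rfl ha.2
    · simp [gM, exS, g5]
    · simp [gM, exS, g5]
    · simp [gM, exS, g5]

theorem Htype (h : Rels x y z t) (w : List H9.HN.TCHN.Lt) (e : ℕ) (hw : ∀ c ∈ w, c ≠ .v)
    (hm : (((w.flatMap exH).map H9.HN.NP.π).prod) ^ e = 1) : ((w.map (gM x y z t)).prod) ^ e = 1 := by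
  rw [mapH w hw]
  exact H9.HN.PMain.rel_of_model (okgP h) _ e hm

theorem Stype (h : Rels x y z t) (w : List H9.HN.TCHN.Lt) (e : ℕ) (hw : ∀ c ∈ w, c ≠ .y ∧ c ≠ .yi)
    (hm : (((w.flatMap exS).map H9.HN.S5M.π5).prod) ^ e = 1) : ((w.map (gM x y z t)).prod) ^ e = 1 := by
  rw [mapS w hw]
  exact H9.HN.S5M.rel_of_model5 (okg5 h) _ e hm

theorem yt (h : Rels x y z t) : t * y = y * t := by
  have h1 : t⁻¹ * y⁻¹ * t * y = 1 := h.r13
  have h2 : (y * t)⁻¹ * (t * y) = 1 := by rw [mul_inv_rev, ← h1]; simp only [mul_assoc]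
  exact (inv_mul_eq_one.1 h2).symm

theorem yx (h : Rels x y z t) : (x * x) * y = y * (x * x) := by
  have h1 := h.r2
  have h4 := x4 h
  have h5 : x ^ 2 * x ^ 2 = 1 := by rw [← pow_add]; exact h4
  have h6 : (x ^ 2)⁻¹ = x ^ 2 := inv_eq_of_mul_eq_one_left h5
  have h2 : x ^ 2 * y = (x ^ 2 * y⁻¹)⁻¹ := by
    apply eq_inv_of_mul_eq_one_left
    rw [← h1]; simp only [mul_assoc]
  rw [mul_inv_rev, inv_inv, h6, pow_two] at h2
  exact h2

theorem yv (h : Rels x y z t) : (x * (x * t)) * y = y * (x * (x * t)) := by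
  have h1 := yx h
  have h2 := yt h
  calc (x * (x * t)) * y = (x * x) * (t * y) := by simp only [mul_assoc]
    _ = ((x * x) * y) * t := by rw [h2]; simp only [mul_assoc]
    _ = y * (x * (x * t)) := by rw [h1]; simp only [mul_assoc]

theorem mix1 (h : Rels x y z t) : (([H9.HN.TCHN.Lt.yi, .v, .y, .v].map (gM x y z t)).prod) ^ 1 = 1 := by
  rw [pow_one]
  change y⁻¹ * ((x * (x * t)) * (y * ((x * (x * t)) * 1))) = 1
  rw [mul_one, ← mul_assoc (x * (x * t)) y, yv h, mul_assoc, vv h, mul_one, inv_mul_cancel]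

theorem zqzqv (h : Rels x y z t) : z * ((z * x) * (z * ((z * x) * (x * (x * t))))) = t := by
  have h1 := zz h
  have h4 := x4 h
  have e1 : ∀ s : G, z * (z * s) = s := fun s => by rw [← mul_assoc, h1, one_mul]
  simp only [mul_assoc, e1]
  have e2 : x * (x * (x * (x * t))) = x ^ 4 * t := by simp only [pow_succ, pow_zero, one_mul, mul_assoc]
  rw [e2, h4, one_mul]

theorem qq (h : Rels x y z t) : (z * x) * (z * x) = 1 := by have := h.r8; rwa [pow_two] at this

theorem mix2 (h : Rels x y z t) :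
    (([H9.HN.TCHN.Lt.v, .q, .z, .q, .z, .yi, .z, .q, .z, .q, .v, .y].map (gM x y z t)).prod) ^ 1 = 1 := by
  rw [pow_one]
  change (x * (x * t)) * ((z * x) * (z * ((z * x) * (z * (y⁻¹ * (z * ((z * x) * (z * ((z * x) * ((x * (x * t)) * (y * 1))))))))))) = 1
  have e1 := zqzqv h
  have e2 : (x * (x * t)) * ((z * x) * (z * ((z * x) * z))) = t⁻¹ := by
    have hv : (x * (x * t))⁻¹ = x * (x * t) := inv_eq_of_mul_eq_one_left (vv h)
    have hq : (z * x)⁻¹ = z * x := inv_eq_of_mul_eq_one_left (qq h)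
    have hz := zi h
    have e1' : t⁻¹ = (z * ((z * x) * (z * ((z * x) * (x * (x * t))))))⁻¹ := by rw [e1]
    rw [e1', mul_inv_rev z, mul_inv_rev (z * x), mul_inv_rev z, mul_inv_rev (z * x), hv, hq, hz]
    simp only [mul_assoc]
  have e3 : (x * (x * t)) * ((z * x) * (z * ((z * x) * (z * (y⁻¹ * (z * ((z * x) * (z * ((z * x) * ((x * (x * t)) * (y * 1)))))))))))
      = ((x * (x * t)) * ((z * x) * (z * ((z * x) * z)))) * y⁻¹ * (z * ((z * x) * (z * ((z * x) * (x * (x * t)))))) * y := by
    simp only [mul_assoc, mul_one]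
  rw [e3, e1, e2]
  exact h.r13

theorem okM (h : Rels x y z t) : ∀ p ∈ H9.HN.TCHN.extra, ((p.1.map (gM x y z t)).prod) ^ p.2 = 1 := by
  intro p hp
  simp only [H9.HN.TCHN.extra, List.mem_cons, List.mem_nil_iff, or_false] at hp
  rcases hp with rfl | rfl | rfl | rfl | rfl | rfl | rfl | rfl | rfl | rfl | rfl | rfl | rfl | rfl | rfl | rfl | rfl | rfl | rfl | rfl | rfl | rfl | rfl | rfl | rfl | rfl | rfl | rfl | rfl | rfl | rfl | rfl | rfl | rfl | rfl | rfl | rfl | rfl | rfl | rfl | rfl | rfl | rfl | rfl | rfl | rfl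
  · exact mix1 h
  · exact Htype h _ _ (by decide) H9.HN.NP.sw_4
  · exact Htype h _ _ (by decide) H9.HN.NP.sw_5
  · exact Stype h _ _ (by decide) (by decide +kernel)
  · exact Htype h _ _ (by decide) H9.HN.NP.sw_7
  · exact Stype h _ _ (by decide) (by decide +kernel)
  · exact Htype h _ _ (by decide) H9.HN.NP.sw_13
  · exact mix2 h
  · exact Stype h _ _ (by decide) (by decide +kernel)
  · exact Htype h _ _ (by decide) H9.HN.NP.sw_12
  · exact Htype h _ _ (by decide) H9.HN.NP.sw_11
  · exact Htype h _ _ (by decide) H9.HN.NP.sw_10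
  · exact Htype h _ _ (by decide) H9.HN.NP.sw_9
  · exact Htype h _ _ (by decide) H9.HN.NP.sw_8
  · exact Stype h _ _ (by decide) (by decide +kernel)
  · exact Htype h _ _ (by decide) H9.HN.NP.sw_32
  · exact Stype h _ _ (by decide) (by decide +kernel)
  · exact Htype h _ _ (by decide) H9.HN.NP.sw_20
  · exact Htype h _ _ (by decide) H9.HN.NP.sw_33
  · exact Htype h _ _ (by decide) H9.HN.NP.sw_31
  · exact Htype h _ _ (by decide) H9.HN.NP.sw_25
  · exact Htype h _ _ (by decide) H9.HN.NP.sw_24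
  · exact Htype h _ _ (by decide) H9.HN.NP.sw_23
  · exact Htype h _ _ (by decide) H9.HN.NP.sw_21
  · exact Htype h _ _ (by decide) H9.HN.NP.sw_14
  · exact Htype h _ _ (by decide) H9.HN.NP.sw_15
  · exact Htype h _ _ (by decide) H9.HN.NP.sw_16
  · exact Htype h _ _ (by decide) H9.HN.NP.sw_17
  · exact Htype h _ _ (by decide) H9.HN.NP.sw_18
  · exact Htype h _ _ (by decide) H9.HN.NP.sw_19
  · exact Htype h _ _ (by decide) H9.HN.NP.sw_22
  · exact Htype h _ _ (by decide) H9.HN.NP.sw_29
  · exact Htype h _ _ (by decide) H9.HN.NP.sw_30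
  · exact Htype h _ _ (by decide) H9.HN.NP.sw_28
  · exact Htype h _ _ (by decide) H9.HN.NP.sw_27
  · exact Htype h _ _ (by decide) H9.HN.NP.sw_26
  · exact Htype h _ _ (by decide) H9.HN.NP.sw_34
  · exact Stype h _ _ (by decide) (by decide +kernel)
  · exact Htype h _ _ (by decide) H9.HN.NP.sw_36
  · exact Stype h _ _ (by decide) (by decide +kernel)
  · exact Htype h _ _ (by decide) H9.HN.NP.sw_38
  · exact Htype h _ _ (by decide) H9.HN.NP.sw_35
  · exact Htype h _ _ (by decide) H9.HN.NP.sw_37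
  · exact Htype h _ _ (by decide) H9.HN.NP.sw_39
  · simp [gM]
  · simp [gM]

theorem pM (h : Rels x y z t) : ∀ a b, (gM x y z t a * gM x y z t b) ^ H9.HN.TCHN.mm a b = 1 := by
  intro a b
  cases a <;> cases b <;> first
    | exact pow_zero _
    | (have := Stype h [.z] 2 (by decide) (by decide +kernel); simpa [gM, H9.HN.TCHN.mm, pow_two] using this)
    | (have := Stype h [.q] 2 (by decide) (by decide +kernel); simpa [gM, H9.HN.TCHN.mm, pow_two] using this)
    | (have := Stype h [.v] 2 (by decide) (by decide +kernel); simpa [gM, H9.HN.TCHN.mm, pow_two] using this)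
    | (have := Stype h [.z, .q] 4 (by decide) (by decide +kernel); simpa [gM, H9.HN.TCHN.mm] using this)
    | (have := Stype h [.q, .z] 4 (by decide) (by decide +kernel); simpa [gM, H9.HN.TCHN.mm] using this)
    | (have := Stype h [.z, .v] 5 (by decide) (by decide +kernel); simpa [gM, H9.HN.TCHN.mm] using this)
    | (have := Stype h [.v, .z] 5 (by decide) (by decide +kernel); simpa [gM, H9.HN.TCHN.mm] using this)
    | (have := Stype h [.q, .v] 6 (by decide) (by decide +kernel); simpa [gM, H9.HN.TCHN.mm] using this)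
    | (have := Stype h [.v, .q] 6 (by decide) (by decide +kernel); simpa [gM, H9.HN.TCHN.mm] using this)

theorem hinvM (h : Rels x y z t) : ∀ a, gM x y z t (H9.HN.TCHN.inv a) = (gM x y z t a)⁻¹ := by
  intro a
  cases a
  · rfl
  · exact (inv_inv _).symm
  · exact (zi h).symm
  · exact (inv_eq_of_mul_eq_one_left (qq h)).symm
  · exact (inv_eq_of_mul_eq_one_left (vv h)).symm

/-- **upper bound for the index** -/
theorem index_le (h : Rels x y z t) (H : Subgroup G) (hx : x ∈ H) (hy : y ∈ H) (hz : z ∈ H)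
    (hgen : Subgroup.closure ({x, y, z, t} : Set G) = ⊤) : H.index ≤ 1539000 ∧ H.index ≠ 0 := by
  have h1 := H9.HN.TCHN.main (g := gM x y z t) (H := H) (hinvM h) (pM h) (okM h) (by
    intro r hr
    simp only [H9.HN.TCHN.subs, List.mem_cons, List.mem_nil_iff, or_false] at hr
    rcases hr with rfl | rfl | rfl
    · simpa [gM] using hy
    · simpa [gM] using hz
    · simpa [gM] using H.mul_mem hz hx)
  have h2 : Subgroup.closure (Set.range (gM x y z t)) = ⊤ := by
    rw [eq_top_iff, ← hgen, Subgroup.closure_le]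
    set K := Subgroup.closure (Set.range (gM x y z t)) with hK
    have ky : y ∈ K := Subgroup.subset_closure ⟨.y, rfl⟩
    have kz : z ∈ K := Subgroup.subset_closure ⟨.z, rfl⟩
    have kq : z * x ∈ K := Subgroup.subset_closure ⟨.q, rfl⟩
    have kv : x * (x * t) ∈ K := Subgroup.subset_closure ⟨.v, rfl⟩
    have kx : x ∈ K := by
      have := K.mul_mem kz kq
      rwa [← mul_assoc, zz h, one_mul] at this
    have kt : t ∈ K := by
      have := K.mul_mem (K.inv_mem kx) (K.mul_mem (K.inv_mem kx) kv)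
      rwa [inv_mul_cancel_left, inv_mul_cancel_left] at this
    rintro a (rfl | rfl | rfl | rfl)
    · exact kx
    · exact ky
    · exact kz
    · exact kt
  rw [h2, Subgroup.relIndex_top_right] at h1
  exact h1

end H9.HN.Up
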