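import Cfsg.Agent.Lib.H10.NHN.Hom
import Cfsg.Agent.Lib.H9.HN.HNUp
import Cfsg.Agent.Lib.H2.HN.HNTriv

/-!
# The index of `⟨x, y, z⟩` in the presented Harada-Norton group
-/

set_option autoImplicit false
set_option maxRecDepth 20000

namespace H9.HN.Idx

open Cfsg.Spor H10.NHN

theorem rels : H9.HN.Up.Rels (gP .x) (gP .y) (gP .z) (gP .t) := by
  obtain ⟨h, h11, h12, h13, h14⟩ := H2.HN.relHN
  exact ⟨h.r1, h.r2, h.r3, h.r4, h.r5, h.r6, h.r7, h.r8, h.r9, h.r10, h11, h12, h13, h14⟩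

theorem gen_top : Subgroup.closure ({gP .x, gP .y, gP .z, gP .t} : Set HN) = ⊤ := by
  have h := PresentedGroup.closure_range_of (coxRelators HN.edges ∪ {r | r ∈ HN.extra})
  rw [eq_top_iff, ← h, Subgroup.closure_le]
  rintro _ ⟨a, rfl⟩
  apply Subgroup.subset_closure
  cases a
  · exact Or.inl rfl
  · exact Or.inr (Or.inl rfl)
  · exact Or.inr (Or.inr (Or.inl rfl))
  · exact Or.inr (Or.inr (Or.inr rfl))

/-- **the index of `⟨x, y, z⟩`** -/
theorem index_NW : NW.index = 1539000 := by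
  refine index_of_ub (H9.HN.Up.index_le rels NW ?_ ?_ ?_ gen_top)
  · rw [NW_eq]; exact Subgroup.subset_closure (Or.inl rfl)
  · rw [NW_eq]; exact Subgroup.subset_closure (Or.inr (Or.inl rfl))
  · rw [NW_eq]; exact Subgroup.subset_closure (Or.inr (Or.inr rfl))

end H9.HN.Idx
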