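import Mathlib
import Cfsg.Agent.Lib.H9.HN.HNRel
import Cfsg.Agent.Lib.H9.HN.TCQ19

/-!
# The quotient of the Harada-Norton presentation by an element of order 19 is trivial
-/

set_option autoImplicit false
set_option linter.all false
set_option maxRecDepth 20000

namespace H9.HN.Up

open H35.TC H35.Net

variable {G : Type} [Group G] {x y z t : G}

theorem Rels.map (h : Rels x y z t) {Q : Type} [Group Q] (f : G →* Q) : Rels (f x) (f y) (f z) (f t) := by
  obtain ⟨h1, h2, h3, h4, h5, h6, h7, h8, h9, h10, h11, h12, h13, h14⟩ := h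
  refine ⟨?_, ?_, ?_, ?_, ?_, ?_, ?_, ?_, ?_, ?_, ?_, ?_, ?_, ?_⟩
  · rw [← map_one f, ← h1]; simp only [map_mul, map_pow, map_inv]
  · rw [← map_one f, ← h2]; simp only [map_mul, map_pow, map_inv]
  · rw [← map_one f, ← h3]; simp only [map_mul, map_pow, map_inv]
  · rw [← map_one f, ← h4]; simp only [map_mul, map_pow, map_inv]
  · rw [← map_one f, ← h5]; simp only [map_mul, map_pow, map_inv]
  · rw [← map_one f, ← h6]; simp only [map_mul, map_pow, map_inv]
  · rw [← map_one f, ← h7]; simp only [map_mul, map_pow, map_inv]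
  · rw [← map_one f, ← h8]; simp only [map_mul, map_pow, map_inv]
  · rw [← map_one f, ← h9]; simp only [map_mul, map_pow, map_inv]
  · rw [← map_one f, ← h10]; simp only [map_mul, map_pow, map_inv]
  · rw [← map_one f, ← h11]; simp only [map_mul, map_pow, map_inv]
  · rw [← map_one f, ← h12]; simp only [map_mul, map_pow, map_inv]
  · rw [← map_one f, ← h13]; simp only [map_mul, map_pow, map_inv]
  · rw [← map_one f, ← h14]; simp only [map_mul, map_pow, map_inv]

/-- letters -/
def gQ (x y z t : G) : H9.HN.TCQ19.Lt → G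
  | .x => x
  | .xi => x⁻¹
  | .y => y
  | .yi => y⁻¹
  | .z => z
  | .t => t
  | .ti => t⁻¹

/-- letters of `P` among the letters -/
def jP : H9.HN.TCPA.Lt → H9.HN.TCQ19.Lt
  | .x => .x
  | .xi => .xi
  | .y => .y
  | .yi => .yi
  | .z => .z

theorem gQ_jP : ∀ a, gQ x y z t (jP a) = gP x y z a := by
  intro a; cases a <;> rfl

theorem exP (h : Rels x y z t) (w : List H9.HN.TCPA.Lt) (e : ℕ) (hw : (w, e) ∈ TCPA.extra) :
    (((w.map jP).map (gQ x y z t)).prod) ^ e = 1 := by
  have h1 := (okgP h).2 (w, e) hw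
  rw [List.map_map]
  have e1 : (gQ x y z t ∘ jP : H9.HN.TCPA.Lt → G) = gP x y z := funext gQ_jP
  rw [e1]
  exact h1

/-- **the quotient by `x⁻¹ t y⁻¹ z y y` is trivial** -/
theorem triv_of_w (h : Rels x y z t) (hw : x⁻¹ * (t * (y⁻¹ * (z * (y * y)))) = 1) :
    x = 1 ∧ y = 1 ∧ z = 1 ∧ t = 1 := by
  have h1 := H9.HN.TCQ19.main (g := gQ x y z t) (H := ⊥)
    (by
      intro a
      cases a
      · rfl
      · exact (inv_inv _).symm
      · rfl
      · exact (inv_inv _).symm
      · exact (zi h).symm
      · rfl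
      · exact (inv_inv _).symm)
    (by
      intro a b
      cases a <;> cases b <;> first
        | exact pow_zero _
        | (have := zz h; simpa [TCQ19.mm, gQ] using this))
    (by
      intro p hp
      simp only [TCQ19.extra, List.mem_cons, List.mem_nil_iff, or_false] at hp
      rcases hp with rfl | rfl | rfl | rfl | rfl | rfl | rfl | rfl | rfl | rfl | rfl | rfl | rfl | rfl | rfl | rfl |
        rfl | rfl | rfl | rfl | rfl | rfl
      · simpa [gQ] using h.r8
      · have := h.r13
        simpa [gQ, mul_assoc] using this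
      · simpa [gQ] using x4 h
      · simpa [gQ] using h.r11
      · have := h.r12
        simpa [gQ, pow_two, mul_assoc] using this
      · simpa [gQ] using h.r1
      · exact exP h [.x, .x, .y, .x, .x, .yi] 1 (by decide)
      · simpa [gQ] using h.r14
      · have := vv h
        simpa [gQ, pow_two] using this
      · have := hw
        simpa [gQ] using this
      · exact exP h [.xi, .yi, .x, .y] 3 (by decide)
      · exact exP h [.x, .y] 8 (by decide)
      · exact exP h [.z, .y, .xi, .yi, .yi, .xi, .yi, .xi, .yi, .z, .y, .x, .y, .x, .y, .y, .x, .yi, .xi, .xi] 1 (by decide)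
      · exact exP h [.xi, .y, .y, .x, .y, .y, .y] 3 (by decide)
      · exact exP h [.x, .y, .x, .y, .y, .y] 4 (by decide)
      · exact exP h [.z, .yi, .xi, .yi, .xi, .yi, .yi, .yi, .z, .y, .y, .y, .x, .y, .x, .y, .x, .yi, .xi, .yi, .xi, .yi, .yi, .yi, .z, .y, .y, .y, .x, .y, .x, .y, .x, .yi, .xi, .yi, .xi, .yi, .yi, .yi, .z, .y, .y, .y, .x, .y, .x, .y, .x] 1 (by decide)
      · simp [gQ]
      · simp [gQ]
      · simp [gQ]
      · simp [gQ]
      · simp [gQ]
      · simp [gQ])
    (by intro r hr; simp [TCQ19.subs] at hr)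
  have h2 := card_le_bot h1
  have h3 : Nat.card (Subgroup.closure (Set.range (gQ x y z t))) = 1 := by omega
  have h4 : Subgroup.closure (Set.range (gQ x y z t)) = ⊥ := Subgroup.card_eq_one.1 h3
  have h5 : ∀ a, gQ x y z t a = 1 := by
    intro a
    have : gQ x y z t a ∈ Subgroup.closure (Set.range (gQ x y z t)) := Subgroup.subset_closure ⟨a, rfl⟩
    rw [h4] at this
    exact Subgroup.mem_bot.1 this
  exact ⟨h5 .x, h5 .y, h5 .z, h5 .t⟩

end H9.HN.Up
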