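import Mathlib
import Cfsg.Agent.Lib.H9.HN.HNIdx
import Cfsg.Agent.Lib.H9.HN.HNQ
import Cfsg.Agent.Lib.H2.HN.Final
import Cfsg.Agent.Lib.H2.HN.HNTriv
import Cfsg.Agent.Lib.H10.NHN.Hom
import Cfsg.Agent.Lib.H10.NHN.Hi

/-!
# The presented Harada-Norton group: order, faithful action on 1539000 points
-/

set_option autoImplicit false
set_option linter.all false
set_option maxRecDepth 20000

namespace H9.HN.Faith

open Cfsg.Spor H10.NHN H35.Net
open H9.HN.Up (Rels)

/-- `x² = 1` kills the group -/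
theorem triv_of_x2 {Q : Type} [Group Q] {x y z t : Q} (h : Rels x y z t) (h2 : x * x = 1) :
    x = 1 ∧ y = 1 ∧ z = 1 ∧ t = 1 := by
  have ex : x⁻¹ = x := inv_eq_of_mul_eq_one_left h2
  have h12 : x * t * x = (t ^ 2)⁻¹ := by
    have := h.r12
    rw [ex] at this
    exact eq_inv_of_mul_eq_one_left this
  have t4 : t ^ 4 = t := by
    have e1 : x * (x * t * x) * x = t := by
      calc x * (x * t * x) * x = (x * x) * t * (x * x) := by simp only [mul_assoc]
        _ = t := by rw [h2, one_mul, mul_one]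
    have e2 : x * (t ^ 2) * x = (x * t * x) ^ 2 := by
      calc x * (t ^ 2) * x = x * t * 1 * t * x := by rw [pow_two, mul_one]; simp only [mul_assoc]
        _ = (x * t * x) ^ 2 := by rw [← h2, pow_two]; simp only [mul_assoc]
    have e3 : x * (t ^ 2)⁻¹ * x = (x * (t ^ 2) * x)⁻¹ := by
      rw [mul_inv_rev, mul_inv_rev, ex]; simp only [mul_assoc]
    rw [h12, e3, e2, h12, inv_pow, inv_inv, ← pow_mul] at e1
    exact e1
  have t1 : t = 1 := by
    have h5 := h.r11
    have e : t ^ 5 = t ^ 4 * t := pow_succ t 4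
    rw [e, t4] at h5
    have e2 : t ^ 4 = (t * t) * (t * t) := by simp only [pow_succ, pow_zero, one_mul, mul_assoc]
    rw [e2, h5, one_mul] at t4
    exact t4.symm
  have z1 : z = 1 := by
    have h14 := h.r14
    rw [t1, mul_one] at h14
    have e : z ^ 3 = z ^ 2 * z := pow_succ z 2
    rw [e, h.r7, one_mul] at h14
    exact h14
  have x1 : x = 1 := by
    have h10 := h.r10
    rw [z1, one_mul, mul_one, inv_mul_cancel, one_mul] at h10
    have e : x ^ 3 = (x * x) * x := by simp only [pow_succ, pow_zero, one_mul, mul_assoc]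
    rw [e, h2, one_mul] at h10
    exact h10
  have y1 : y = 1 := by
    have h4 := h.r4
    have h6 := h.r6
    have h1 := h.r1
    rw [x1] at h4 h6
    rw [inv_one, one_mul, mul_one, ← pow_add, ← pow_mul] at h4
    rw [one_mul, mul_one, ← pow_succ', ← pow_mul] at h6
    have e1 : y ^ 16 = y ^ 15 * y := pow_succ y 15
    have h4' : y ^ 15 = 1 := h4
    have h6' : y ^ 16 = 1 := h6
    rw [e1, h4', one_mul] at h6'
    exact h6'
  exact ⟨x1, y1, z1, t1⟩

theorem hom_triv {Q : Type} [Group Q] (f : HN →* Q)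
    (h : f (gP .x) = 1 ∧ f (gP .y) = 1 ∧ f (gP .z) = 1 ∧ f (gP .t) = 1) : f = 1 := by
  obtain ⟨h1, h2, h3, h4⟩ := h
  have h5 : (⊤ : Subgroup HN) ≤ f.ker := by
    rw [← H9.HN.Idx.gen_top, Subgroup.closure_le]
    rintro _ (rfl | rfl | rfl | rfl)
    · exact h1
    · exact h2
    · exact h3
    · exact h4
  refine MonoidHom.ext fun a => ?_
  exact h5 (Subgroup.mem_top a)

theorem ρ_x2 : ρ (gP .x * gP .x) ≠ 1 := by
  intro h
  rw [map_mul] at h
  exact ρ_ne (hom_triv ρ (triv_of_x2 (H9.HN.Idx.rels.map ρ) h))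

theorem hx_ne : H2.HN.hx ^ 2 ≠ 1 := H2.HN.x2_ne NW (by rw [H9.HN.Idx.index_NW]; norm_num)

theorem card_NW : Nat.card NW = 177408000 :=
  (H2.HN.main H2.HN.relHN.1 hx_ne NW H2.HN.closure_map).2.1

theorem card_HN : Nat.card HN = 273030912000000 := by
  rw [← Subgroup.card_mul_index NW, card_NW, H9.HN.Idx.index_NW]

theorem fin : Finite HN := Nat.finite_of_card_ne_zero (by rw [card_HN]; norm_num)

/-- the point stabilizer -/
def S : Subgroup HN where
  carrier := {g | ρ g 0 = 0}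
  mul_mem' := by
    intro a b ha hb
    have ha : ρ a 0 = 0 := ha
    have hb : ρ b 0 = 0 := hb
    show ρ (a * b) 0 = 0
    rw [map_mul, Equiv.Perm.mul_apply, hb, ha]
  one_mem' := by show ρ 1 0 = 0; rw [map_one]; rfl
  inv_mem' := by
    intro a ha
    have ha : ρ a 0 = 0 := ha
    show ρ a⁻¹ 0 = 0
    rw [map_inv, Equiv.Perm.inv_eq_iff_eq]; exact ha.symm

theorem NW_le : NW ≤ S := fun g hg => NW_fix g hg

theorem S_eq : S = NW := by
  have h1 := H9.HN.Idx.index_NW
  have hd : S.index ∣ NW.index := Subgroup.index_dvd_of_le NW_le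
  rw [h1] at hd
  have hpos : 0 < 1539000 := by norm_num
  have hle : S.index ≤ 1539000 := Nat.le_of_dvd hpos hd
  have hne : S.index ≠ 0 := by
    intro h0
    rw [h0] at hd
    have := Nat.eq_zero_of_zero_dvd hd
    omega
  have h2 : S.index = 1539000 := H35.Net.index_eq ⟨hle, hne⟩ ρ (fun h hh => hh) ρ_trans
  have h3 : NW.relIndex S * S.index = NW.index := Subgroup.relIndex_mul_index NW_le
  rw [h1, h2] at h3
  have h4 : NW.relIndex S = 1 := Nat.eq_of_mul_eq_mul_right hpos (h3.trans (one_mul _).symm)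
  exact le_antisymm (Subgroup.relIndex_eq_one.1 h4) NW_le

theorem ρ_inj : Function.Injective ρ := by
  rw [injective_iff_map_eq_one]
  intro g hg
  have h1 : g ∈ NW := by
    rw [← S_eq]
    show ρ g 0 = 0
    rw [hg]; rfl
  have h2 : g ∈ (H2.HN.lift H2.HN.relHN.1).range := by
    rw [H2.HN.range_lift, ← H2.HN.closure_map]; exact h1
  obtain ⟨p, rfl⟩ := h2
  have hinj : Function.Injective (ρ.comp (H2.HN.lift H2.HN.relHN.1)) := by
    apply H2.HN.inj
    rw [MonoidHom.comp_apply, map_pow, H2.HN.lift_x, pow_two]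
    exact ρ_x2
  have h3 : p = 1 := hinj (by rw [MonoidHom.comp_apply, hg, map_one])
  rw [h3, map_one]

/-- all letters -/
theorem gen_lt : Subgroup.closure (Set.range lt) = ⊤ := by
  rw [eq_top_iff, ← H9.HN.Idx.gen_top, Subgroup.closure_le]
  rintro _ (rfl | rfl | rfl | rfl)
  · exact Subgroup.subset_closure ⟨.x, rfl⟩
  · exact Subgroup.subset_closure ⟨.y, rfl⟩
  · exact Subgroup.subset_closure ⟨.z, rfl⟩
  · exact Subgroup.subset_closure ⟨.t, rfl⟩

theorem pres_all' : ∀ (g : HN) (b : ℕ), ρ g b < 1539000 ↔ b < 1539000 := pres_all ρ_lt gen_lt pres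

theorem fix_all' : ∀ (g : HN) (b : ℕ), 1539000 ≤ b → ρ g b = b := fix_all ρ_lt gen_lt fix_hi

end H9.HN.Faith
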