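import Cfsg.Agent.Lib.H35.TC

/-!
# Todd–Coxeter certificates: merges by a relator with a dynamic split position
-/

set_option autoImplicit false

namespace H9.TCX
open H35.TC

/-- the first `s` table functions -/
noncomputable def tk (fs : List (ℕ → ℕ)) : ℕ → List (ℕ → ℕ) :=
  List.rec (motive := fun _ => ℕ → List (ℕ → ℕ)) (fun _ => [])
    (fun F _ ih s => Nat.rec (motive := fun _ => List (ℕ → ℕ)) [] (fun m _ => F :: ih m) s) fs

theorem tk_map {L : Type} (T : L → ℕ → ℕ) (W : List L) : ∀ s, tk (W.map T) s = (W.take s).map T := by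
  induction W with
  | nil => intro s; simp [tk]
  | cons a W ih =>
    intro s
    cases s with
    | zero => rfl
    | succ s =>
      rw [List.take_succ_cons, List.map_cons, List.map_cons]
      exact congrArg (fun l => T a :: l) (ih s)

/-- merge by a relator traced from both sides from `a`, split after `s` letters -/
noncomputable def mRelD (MG : ℕ → ℕ) (fs1 fs2 : List (ℕ → ℕ)) (n s M RR fuel a u v : ℕ) : Bool :=
  mRel MG (tk fs1 s) (tk fs2 (Nat.sub n s)) M RR fuel a u v

theorem split_rel {G : Type} [Group G] {L : Type} {inv : L → L} {g : L → G}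
    (hinv : ∀ x, g (inv x) = (g x)⁻¹) {X : Type} [MulAction G X] {W : List L}
    (h : (W.map g).prod = 1) (s : ℕ) (z : X) :
    act (fa g) (W.take s) z = act (fa g) (((W.map inv).reverse).take (W.length - s)) z := by
  have e : ((W.map inv).reverse).take (W.length - s) = ((W.drop s).map inv).reverse := by
    rcases Nat.lt_or_ge W.length s with hs | hs
    · rw [List.drop_eq_nil_of_le (by omega), Nat.sub_eq_zero_of_le (by omega)]
      simp
    · rw [List.take_reverse, List.length_map, Nat.sub_sub_self hs, List.map_drop]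
  rw [e, act_fa, act_fa, prod_map_inv hinv]
  have h2 : ((W.take s).map g).prod * ((W.drop s).map g).prod = 1 := by
    rw [← List.prod_append, ← List.map_append, List.take_append_drop]; exact h
  rw [eq_inv_of_mul_eq_one_left h2]

theorem mRelD_good {G : Type} [Group G] {L : Type} [DecidableEq L] {inv : L → L} {g : L → G}
    {X : Type} [MulAction G X] {T : L → ℕ → ℕ} {MG : ℕ → ℕ} {M : ℕ} {c : ℕ → X}
    {rels : List (List L)} (hM : 0 < M) (hinv : ∀ x, g (inv x) = (g x)⁻¹)
    (hr : ∀ r ∈ rels, (r.map g).prod = 1) (W : List L) (hW : isRel inv rels W = true)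
    {s fuel a u : ℕ}
    (h : mRelD MG (W.map T) (((W.map inv).reverse).map T) W.length s M
      (Nat.sub (MG u) (Nat.mod (MG u) M)) fuel a u (Nat.mod (MG u) M) = true) :
    GoodM (fa g) T MG M c u := by
  unfold mRelD at h
  rw [tk_map, tk_map] at h
  exact mRel_good hM _ _ (split_rel hinv (prod_of_isRel hinv hr hW) s) h

end H9.TCX
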