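import Cfsg.Agent.Lib.H9.HN.TCX

/-!
# Todd–Coxeter certificates: relators given by index and rotation
-/

set_option autoImplicit false

namespace H9.TCY
open H35.TC

variable {G : Type} [Group G] {L : Type}

/-- rotation by `j` of the relator number `i` (inverted if `b`) -/
def relAt (inv : L → L) (rels : List (List L)) (i j : ℕ) (b : Bool) : List L :=
  (bif b then (((rels.getD i []).map inv).reverse) else (rels.getD i [])).rotate j

theorem prod_at {inv : L → L} {g : L → G} {rels : List (List L)}
    (hinv : ∀ x, g (inv x) = (g x)⁻¹) (hr : ∀ r ∈ rels, (r.map g).prod = 1) {w : List L}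
    (i j : ℕ) (b : Bool) (h : relAt inv rels i j b = w) : (w.map g).prod = 1 := by
  have h0 : ((rels.getD i []).map g).prod = 1 := by
    rw [List.getD_eq_getElem?_getD]
    rcases hi : rels[i]? with _ | r
    · simp
    · exact hr r (List.mem_of_getElem? hi)
  rw [← h, relAt, List.map_rotate]
  apply prod_rotate_eq_one
  cases b
  · exact h0
  · show ((((rels.getD i []).map inv).reverse).map g).prod = 1
    rw [prod_map_inv hinv, h0, inv_one]

theorem hole_at {inv : L → L} {g : L → G} {rels : List (List L)}
    (hinv : ∀ x, g (inv x) = (g x)⁻¹) (hr : ∀ r ∈ rels, (r.map g).prod = 1) {X : Type} [MulAction G X]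
    {x : L} {W : List L} (i j : ℕ) (b : Bool) (h : relAt inv rels i j b = W ++ [x]) (z : X) :
    fa g x (act (fa g) W z) = z := by
  have := prod_at hinv hr i j b h
  rw [act_fa, fa, smul_smul, ← mul_inv_rev]
  rw [List.map_append, List.prod_append, List.map_singleton, List.prod_singleton] at this
  rw [this, inv_one, one_smul]

theorem mRelD_at {inv : L → L} {g : L → G}
    {X : Type} [MulAction G X] {T : L → ℕ → ℕ} {MG : ℕ → ℕ} {M : ℕ} {c : ℕ → X}
    {rels : List (List L)} (hM : 0 < M) (hinv : ∀ x, g (inv x) = (g x)⁻¹)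
    (hr : ∀ r ∈ rels, (r.map g).prod = 1) (W : List L) (i j : ℕ) (b : Bool) (hW : relAt inv rels i j b = W)
    {s fuel a u : ℕ}
    (h : H9.TCX.mRelD MG (W.map T) (((W.map inv).reverse).map T) W.length s M
      (Nat.sub (MG u) (Nat.mod (MG u) M)) fuel a u (Nat.mod (MG u) M) = true) :
    GoodM (fa g) T MG M c u := by
  unfold H9.TCX.mRelD at h
  rw [H9.TCX.tk_map, H9.TCX.tk_map] at h
  exact mRel_good hM _ _ (H9.TCX.split_rel hinv (prod_at hinv hr i j b hW) s) h

end H9.TCY
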